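import Mathlib
import Cfsg.Agent.Lib.LBal.Term2
import Cfsg.Agent.Lib.LBal.App
import Cfsg.Agent.Lib.W2.Tools
import Cfsg.Agent.Lib.GHM.Tools
import Cfsg.Agent.Lib.StdInt.AltN
import Cfsg.Agent.Lib.StdInt.Half

/-! Intrinsic `2`-components of type `2.Aₙ`: definitions. -/

set_option autoImplicit false
set_option linter.unusedSectionVars false
set_option linter.style.haveILetI false

namespace CfsgLib.Sol

open Cfsg Subgroup CfsgLib.PComp CfsgLib.Tech CfsgLib.W2 Equiv
open CfsgLib.LBal hiding cj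
open CfsgLib.StdInt (Two)
open scoped commutatorElement

universe u

variable {G : Type u} [Group G]

/-- the largest normal subgroup of odd order -/
abbrev O (X : Subgroup G) : Subgroup G := opOf 2 X

/-- the normaliser -/
abbrev N (J : Subgroup G) : Subgroup G := normalizer (J : Set G)

/-- the centraliser of `J / O(J)` -/
abbrev cm [Finite G] (J : Subgroup G) : Subgroup G := cmod 2 J

/-- `J / O(J)` is a non-split double cover of `Aₙ` -/
def Ty (n : ℕ) (J : Subgroup G) : Prop :=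
  IsNonsplitDoubleCover (J ⧸ pPrimeCore 2 J) (alternatingGroup (Fin n))

/-- a double transposition -/
def IsDT {α : Type*} [DecidableEq α] (π : Perm α) : Prop :=
  ∃ a b c d, [a, b, c, d].Nodup ∧ π = swap a b * swap c d

/-- an involution moving eight points -/
def Oct {α : Type*} [DecidableEq α] [Fintype α] (π : Perm α) : Prop := π * π = 1 ∧ π.support.card = 8

/-- the pointwise stabiliser of the support of `π` -/
def fixS {α : Type*} (π : Perm α) : Subgroup (Perm α) where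
  carrier := {g | ∀ p, π p ≠ p → g p = p}
  one_mem' := fun _ _ => rfl
  mul_mem' := fun ha hb p hp => by rw [Perm.mul_apply, hb p hp, ha p hp]
  inv_mem' := fun ha p hp => by rw [Perm.inv_eq_iff_eq, ha p hp]

theorem mem_fixS {α : Type*} {π g : Perm α} : g ∈ fixS π ↔ ∀ p, π p ≠ p → g p = p := Iff.rfl

theorem conj_mem_fixS {α : Type*} {π g h : Perm α} (hc : Commute h π) (hg : g ∈ fixS π) : h * g * h⁻¹ ∈ fixS π :=
  fun p hp => by
    have : π (h⁻¹ p) ≠ h⁻¹ p := fun e => hp (by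
      have := StdInt.AltS.comm_apply hc (h⁻¹ p)
      rw [e] at this
      simpa using this.symm)
    rw [Perm.mul_apply, Perm.mul_apply, hg _ this]; simp

theorem eq_one_of_mem_fixS {α : Type*} {π : Perm α} (h : π ∈ fixS π) : π = 1 :=
  Equiv.ext fun p => by_contra fun e => e (h p e)

/-- `J` is an intrinsic `2`-component of type `2.Aₙ` of `C_X(t)` -/
structure Intr (n : ℕ) (X : Subgroup G) (t : G) (J : Subgroup G) : Prop where
  pc : PC 2 J (X ⊓ Cx t)
  mem : t ∈ J
  ord : orderOf t = 2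
  ty : Ty n J
  ge : 8 ≤ n

/-- `J` is an intrinsic `2`-component of type `2.Aₙ` of `C_G(t)` -/
structure In (n : ℕ) (t : G) (J : Subgroup G) : Prop where
  pc : PC 2 J (Cx t)
  mem : t ∈ J
  ord : orderOf t = 2
  ty : Ty n J
  ge : 8 ≤ n

/-- the join of the intrinsic components -/
def kap (n : ℕ) (w : G) : Subgroup G := sSup {K | In n w K}

/-- the join of the intrinsic components at the involutions of `kap n z` -/
def LL (n : ℕ) (z : G) : Subgroup G := ⨆ u : {u : G // u ∈ kap n z ∧ orderOf u = 2}, kap n u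

variable [Finite G]

/-- the proper pump-up -/
structure TyY (n : ℕ) (t : G) (J L : Subgroup G) : Prop where
  deg : n = 8 ∨ n = 11
  zen : L ⊓ cm L ≤ O L
  gen : ∀ Γ : Subgroup G, O L ≤ Γ → (∀ v ∈ J, orderOf v = 2 → L ⊓ Cx v ≤ Γ) → L ≤ Γ
  one : ∀ v ∈ L, orderOf v = 2 → ∃ l ∈ L, l * t * l⁻¹ = v

/-- the pump-up `L` of `J` -/
structure Pu (n : ℕ) (t : G) (J L : Subgroup G) : Prop where
  le : J ≤ L
  core : O J ≤ O L
  ct : L ⊓ Cx t ≤ J ⊔ O L
  alt : t ∈ cm L ∨ TyY n t J L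

/-- a minimal situation: a simple group in whose proper subgroups the theorem holds -/
structure Ctx (n : ℕ) (G : Type u) [Group G] [Finite G] : Prop where
  simple : IsSimpleGroup G
  pu : ∀ L : Subgroup G, L ≠ ⊤ → IsPQs 2 L → ∀ t J, Intr n L t J → Pu n t J L

/-- all pump-ups of the components at the conjugates of `z` are trivial -/
def NoY (n : ℕ) (z : G) : Prop := ∀ (w x : G) (K L : Subgroup G), IsConj z w → In n w K → orderOf x = 2 →
  Commute w x → x ∈ cm K → PC 2 L (Cx x) → Ky 2 K x ≤ L → w ∈ cm L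

/-- the main configuration -/
structure Mid (n : ℕ) (z : G) : Prop where
  ctx : Ctx n G
  int : ∀ w, IsConj z w → In n w (kap n w)
  uq : ∀ w K, IsConj z w → In n w K → K = kap n w
  le : n ≤ 11
  inv : ∀ w u, IsConj z w → u ∈ kap n w → orderOf u = 2 → IsConj z u
  adj : ∀ w u, IsConj z w → IsConj z u → Commute w u → u ∈ cm (kap n w) ∨ u ∈ kap n w

/-- the conclusion for a simple group -/
structure Concl (n : ℕ) (z : G) (K : Subgroup G) : Prop where
  cent : Cx z = K
  core : O K = ⊥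
  deg : n = 8 ∨ n = 11
  odd : Odd (Cx z).index
  one : ∀ v : G, orderOf v = 2 → IsConj z v
  gen : ∀ Γ : Subgroup G, (∀ v ∈ K, orderOf v = 2 → Cx v ≤ Γ) → Γ = ⊤

/-- the action of `N(J)` on `n` points -/
structure Act (n : ℕ) (J : Subgroup G) (z : G) (r : G → Perm (Fin n)) : Prop where
  ge : 8 ≤ n
  pqs : IsPQs 2 J
  mem : z ∈ J
  ord : orderOf z = 2
  cen : J ≤ Cx z
  mul : ∀ {a b : G}, a ∈ N J → b ∈ N J → r (a * b) = r a * r b
  ker : ∀ {a : G}, a ∈ N J → (r a = 1 ↔ a ∈ cm J)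
  sp : ∃ ρ : (J ⧸ pPrimeCore 2 J) →* Perm (Fin n),
    StdInt.AltS.Sp ρ (piO 2 J ⟨z, mem⟩) ∧ ∀ a : J, ρ (piO 2 J a) = r a

/-! ### Elementary facts -/

variable {n : ℕ} {X Y J K L : Subgroup G} {t z w x : G}

theorem Ty.iso {H : Type*} [Group H] {J' : Subgroup H} (h : Ty n J) (e : Iso 2 J J') : Ty n J' := by
  obtain ⟨e⟩ := e
  obtain ⟨h1, ⟨f⟩, h3⟩ := h
  have hc := Comp.map_center_of_mulEquiv e
  refine ⟨?_, ⟨(QuotientGroup.congr _ _ e hc).symm.trans f⟩, fun M hM => h3 (M.comap e.toMonoidHom) ?_⟩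
  · rw [← hc, card_map_of_injective e.injective, h1]
  · have h4 : center _ = (center _).comap e.toMonoidHom := by
      rw [← hc, comap_map_eq_self_of_injective e.injective]
    rw [h4]
    refine isComplement'_of_disjoint_and_mul_eq_univ ?_ ?_
    · rw [disjoint_iff, ← comap_inf, hM.disjoint.eq_bot, MonoidHom.comap_bot]
      exact e.toMonoidHom.ker_eq_bot_iff.2 e.injective
    · refine Set.eq_univ_of_forall fun g => ?_
      obtain ⟨⟨a, b⟩, e1⟩ := hM.existsUnique (e g) |>.exists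
      exact ⟨e.symm a, by simp, e.symm b, by simp, e.injective (by simpa using e1)⟩

theorem Ty.cj (h : Ty n J) (g : G) : Ty n (cj g J) := h.iso (iso_map J (MulAut.conj g).injective)

theorem In.intr (h : In n t J) : Intr n ⊤ t J := ⟨by rw [top_inf_eq]; exact h.pc, h.mem, h.ord, h.ty, h.ge⟩

theorem Intr.toIn (h : Intr n ⊤ t J) : In n t J := ⟨by simpa using h.pc, h.mem, h.ord, h.ty, h.ge⟩

theorem Intr.of_le (h : Intr n X t J) (h1 : J ≤ Y) (h2 : Y ≤ X) : Intr n Y t J :=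
  ⟨h.pc.of_le (le_inf h1 (h.pc.le.trans inf_le_right)) (inf_le_inf_right _ h2), h.mem, h.ord, h.ty, h.ge⟩

theorem In.intr_of_le (h : In n t J) (h1 : J ≤ Y) : Intr n Y t J := h.intr.of_le h1 le_top

theorem Intr.cen (h : Intr n X t J) : J ≤ Cx t := h.pc.le.trans inf_le_right

theorem Intr.cm (h : Intr n X t J) : t ∈ cm J :=
  centralizer_le_cmod J fun _ hj => mem_Cx.1 (h.cen hj)

theorem In.cm (h : In n t J) : t ∈ cm J := h.intr.cm

theorem Intr.cj (h : Intr n X t J) (g : G) : Intr n (cj g X) (g * t * g⁻¹) (cj g J) :=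
  ⟨by rw [← cj_Cx, ← cj_inf]; exact h.pc.conj g, conj_mem_cj.2 h.mem, (ord_conj g t).trans h.ord, h.ty.cj g, h.ge⟩

theorem In.cj (h : In n t J) (g : G) : In n (g * t * g⁻¹) (cj g J) :=
  ⟨by rw [← cj_Cx]; exact h.pc.conj g, conj_mem_cj.2 h.mem, (ord_conj g t).trans h.ord, h.ty.cj g, h.ge⟩

theorem In.cj_of_mem (h : In n t J) {g : G} (hg : g ∈ Cx t) : In n t (Tech.cj g J) := by
  have := h.cj g
  rwa [mem_Cx'.1 hg] at this

theorem cj_O (g : G) (X : Subgroup G) : cj g (O X) = O (cj g X) := map_conj_opOf g X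

theorem cj_cm (g : G) (J : Subgroup G) : cj g (cm J) = cm (cj g J) := map_conj_cmod J g

theorem conj_mem_cm {g a : G} : g * a * g⁻¹ ∈ cm (cj g J) ↔ a ∈ cm J := by rw [← cj_cm, conj_mem_cj]

theorem cj_Ky (g : G) (K : Subgroup G) (x : G) : cj g (Ky 2 K x) = Ky 2 (cj g K) (g * x * g⁻¹) := by
  refine (map_conj_pec g _).trans (congrArg _ ?_)
  exact (cj_inf g K (Cx x)).trans (by rw [cj_Cx])

theorem cj_kap (g w : G) : cj g (kap n w) = kap n (g * w * g⁻¹) := by
  have key : ∀ g w : G, cj g (kap n w) ≤ kap n (g * w * g⁻¹) := fun g w =>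
    map_le_iff_le_comap.2 (sSup_le fun K hK => map_le_iff_le_comap.1 (le_sSup (In.cj hK g)))
  refine le_antisymm (key g w) ?_
  have := cj_mono g (key g⁻¹ (g * w * g⁻¹))
  rwa [cj_cj_inv, show g⁻¹ * (g * w * g⁻¹) * g⁻¹⁻¹ = w by group] at this

theorem le_LL {u : G} (h : u ∈ kap n z) (hu : orderOf u = 2) : kap n u ≤ LL n z :=
  le_iSup (fun u : {u : G // u ∈ kap n z ∧ orderOf u = 2} => kap n (u : G)) ⟨u, h, hu⟩

theorem LL_le (h : ∀ u ∈ kap n z, orderOf u = 2 → kap n u ≤ X) : LL n z ≤ X := iSup_le fun u => h u u.2.1 u.2.2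

theorem cj_LL (g w : G) : cj g (LL n w) = LL n (g * w * g⁻¹) := by
  have key : ∀ g w : G, cj g (LL n w) ≤ LL n (g * w * g⁻¹) := fun g w =>
    map_le_iff_le_comap.2 (LL_le fun u h1 h2 => map_le_iff_le_comap.1 ((cj_kap g u).le.trans
      (le_LL (by rw [← cj_kap]; exact conj_mem_cj.2 h1) ((ord_conj g u).trans h2))))
  refine le_antisymm (key g w) ?_
  have := cj_mono g (key g⁻¹ (g * w * g⁻¹))
  rwa [cj_cj_inv, show g⁻¹ * (g * w * g⁻¹) * g⁻¹⁻¹ = w by group] at this

theorem isConj_conj (h : IsConj z w) (g : G) : IsConj z (g * w * g⁻¹) := h.trans (isConj_iff.2 ⟨g, rfl⟩)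

theorem ord_of_isConj (hz : orderOf z = 2) (h : IsConj z w) : orderOf w = 2 := by
  obtain ⟨g, rfl⟩ := isConj_iff.1 h
  exact (ord_conj g z).trans hz

theorem In.exists_of_isConj (h : In n z K) (hw : IsConj z w) : ∃ J, In n w J := by
  obtain ⟨g, rfl⟩ := isConj_iff.1 hw
  exact ⟨_, h.cj g⟩

theorem two_iff {a : G} : Two a ↔ IsPGroup 2 (zpowers a) :=
  ⟨fun ⟨_, h⟩ => isPGroup_zpowers_of_pow h, fun h => isPGroup_iff_mem.1 h a (mem_zpowers a)⟩

theorem two_of_mem {P : Subgroup G} (hP : IsPGroup 2 P) {a : G} (ha : a ∈ P) : Two a := isPGroup_iff_mem.1 hP a ha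

theorem two_of_ord (h : orderOf x = 2) : Two x := StdInt.two_of_sq (sq_of_ord h)

theorem mem_ky {a : G} (ha : a ∈ K) (hc : a ∈ Cx x) (h2 : Two a) : a ∈ Ky 2 K x :=
  h2.elim fun _ hk => mem_pec_of_pow ⟨ha, hc⟩ hk

theorem odd_of_mem_O {a : G} (h : a ∈ O X) : Odd (orderOf a) := StdInt.odd_of_mem (odd_card_opOf X) h

theorem eq_one_of_mem_O {a : G} (h : a ∈ O X) (h2 : Two a) : a = 1 := StdInt.eq_one_of_odd_two (odd_of_mem_O h) h2

theorem not_mem_O (h : orderOf x = 2) : x ∉ O X := fun e => ne_one_of_ord h (eq_one_of_mem_O e (two_of_ord h))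

/-- the component in the centraliser of a further involution -/
theorem Intr.ky (h : Intr n X t K) (hx : orderOf x = 2) (hc : Commute t x) (hK : x ∈ Sol.cm K) :
    Intr n (X ⊓ Cx x) t (Ky 2 K x) :=
  ⟨by rw [inf_right_comm]; exact ky_pc h.pc hx hK, mem_ky h.mem (mem_Cx.2 hc) (two_of_ord h.ord), h.ord,
    h.ty.iso (iso_of_cover (ky_le K x) (ky_cov h.pc.pqs hx hK)).symm, h.ge⟩

theorem In.ky (h : In n t K) (hx : orderOf x = 2) (hc : Commute t x) (hK : x ∈ Sol.cm K) :
    Intr n (Cx x) t (Ky 2 K x) := by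
  have := h.intr.ky hx hc hK
  rwa [top_inf_eq] at this

theorem N_le_N_layer (X : Subgroup G) : N X ≤ N (pLayerOf 2 X) := fun g hg =>
  mem_normalizer_of_cj_le (map_le_iff_le_comap.2 (pLayerOf_le_iff.2 fun K hK => map_le_iff_le_comap.1 (by
    have := hK.conj g
    rw [mem_normalizer_iff_map.1 hg] at this
    exact this.le_pLayerOf)))

theorem le_N_layer (X : Subgroup G) : X ≤ N (pLayerOf 2 X) := le_normalizer.trans (N_le_N_layer X)

theorem not_solvable_pqs (h : IsPQs 2 J) : ¬ Group.IsSolvable J := fun e => h.not_le_solvable e le_rfl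

theorem Ctx.not_comm (_ : Ctx n G) (h : In n z K) : ¬ IsMulCommutative G := fun _ =>
  not_solvable_pqs h.pc.pqs (Coprime.isSolvable_of_isMulCommutative K)

theorem Ctx.normal (c : Ctx n G) (h : N X = ⊤) : X = ⊥ ∨ X = ⊤ :=
  haveI := c.simple
  (normalizer_eq_top_iff.1 h).eq_bot_or_eq_top

theorem Ctx.N_ne (c : Ctx n G) (h1 : X ≠ ⊥) (h2 : X ≠ ⊤) : N X ≠ ⊤ := fun e => (c.normal e).elim h1 h2

theorem Ctx.O_top (c : Ctx n G) (h : In n z K) : pPrimeCore 2 G = ⊥ :=
  haveI := c.simple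
  (inferInstance : (pPrimeCore 2 G).Normal).eq_bot_or_eq_top.resolve_right fun e =>
    not_mem_O (X := ⊤) h.ord (by rw [O, opOf_top, e]; exact mem_top z)

theorem Ctx.Cx_ne (c : Ctx n G) (h : In n z K) (hx : x ≠ 1) : Cx x ≠ ⊤ := fun e => by
  haveI := c.simple
  have h1 : x ∈ center G := mem_center_iff.2 fun g => mem_Cx.1 (e.ge (mem_top g))
  rcases (inferInstance : (center G).Normal).eq_bot_or_eq_top with f | f
  · exact hx (f.le h1)
  · exact c.not_comm h ⟨⟨fun a b => mem_center_iff.1 (f.ge (mem_top b)) a⟩⟩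

theorem Ctx.index_ne (c : Ctx n G) (h : In n z K) (M : Subgroup G) : M.index ≠ 2 := fun e => by
  haveI := c.simple
  rcases (normal_of_index_eq_two e).eq_bot_or_eq_top with rfl | rfl
  · rw [index_bot] at e
    have := isCyclic_of_prime_card (p := 2) e
    exact c.not_comm h inferInstance
  · simp at e

end CfsgLib.Sol
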