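import Mathlib
import Cfsg.Agent.Lib.Sol.Defs
import Cfsg.Agent.S1174

/-! Coprime action and Sylow arguments. -/

set_option autoImplicit false
set_option linter.unusedSectionVars false
set_option linter.style.haveILetI false

namespace CfsgLib.Sol

open Cfsg Subgroup CfsgLib.PComp CfsgLib.Tech CfsgLib.W2 Equiv Equiv.Perm
open CfsgLib.LBal hiding cj
open CfsgLib.StdInt (Two)
open CfsgLib.AltAut (tc)
open scoped commutatorElement

universe u

variable {G : Type u} [Group G] [Finite G] {n : ℕ} {X Y J K L M P Q W : Subgroup G} {a b c t u v w x y z : G}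


theorem fr (hW : Odd (Nat.card W)) (ha : a * a = 1) (hb : b * b = 1) (h : a * b ∈ W) :
    ∃ o ∈ W, o * b * o⁻¹ = a := by
  obtain ⟨k, hk⟩ := exists_pow_conj_of_odd ha hb (StdInt.odd_of_mem hW h)
  exact ⟨_, W.pow_mem h k, hk⟩

theorem lift2 (hP : IsPGroup 2 P) (hn : P ≤ N J) (hy : y ∈ J) (h : ∀ x ∈ P, ⁅x, y⁆ ∈ O J) :
    ∃ y' ∈ J, (∀ x ∈ P, Commute x y') ∧ y'⁻¹ * y ∈ O J := by
  have hJO : J ≤ N (O J) := le_normalizer_opOf J
  let K : Subgroup G :=
    { carrier := {y | y ∈ J ∧ ∀ x ∈ P, ⁅x, y⁆ ∈ O J}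
      one_mem' := ⟨J.one_mem, fun x _ => by simp⟩
      mul_mem' := fun {a b} ha hb => ⟨J.mul_mem ha.1 hb.1, fun x hx => by
        have := mul_mem (ha.2 x hx) (conj_mem_of_mem_normalizer (hJO ha.1) (hb.2 x hx))
        convert this using 1
        simp only [commutatorElement_def]
        group⟩
      inv_mem' := fun {a} ha => ⟨J.inv_mem ha.1, fun x hx => by
        have := conj_mem_of_mem_normalizer' (hJO ha.1) (inv_mem (ha.2 x hx))
        convert this using 1
        simp only [commutatorElement_def]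
        group⟩ }
  have h1 : O J ≤ K := fun o ho => ⟨opOf_le J ho, fun x hx =>
    mul_mem (conj_mem_of_mem_normalizer (normalizer_le_normalizer_opOf J (hn hx)) ho) (inv_mem ho)⟩
  have h2 : ⁅K, P⁆ ≤ O J := commutator_le.2 fun k hk x hx => by
    rw [← commutatorElement_inv]
    exact inv_mem (hk.2 x hx)
  obtain ⟨u, hu, c, hc, e⟩ := Coprime.exists_mul_centralizer_of_commutator_le h1 h2
    (coprime_card_of_isPGroup hP (coprime_card_opOf J))
    (Or.inr (FT.odd_subgroup_solvable (odd_card_opOf J))) (k := y) ⟨hy, h⟩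
  refine ⟨c, hc.1.1, fun x hx => mem_centralizer_iff.1 hc.2 x hx, ?_⟩
  rw [e, ← mul_assoc]
  exact conj_mem_of_mem_normalizer' (hJO hc.1.1) hu

theorem inv2 (hW : Odd (Nat.card W)) (hP : IsPGroup 2 P) (hQ : IsPGroup 2 Q) (h1 : P ≤ N W) (h2 : Q ≤ N W)
    (h : ∀ p ∈ P, ∀ q ∈ Q, ⁅p, q⁆ ∈ W) : ∃ o ∈ W, ∀ p ∈ P, ∀ q ∈ Q, Commute p (o * q * o⁻¹) := by
  have hW' : (Nat.card W).Coprime 2 := hW.coprime_two_right
  have hS : IsSylowIn 2 Q (Q ⊔ W) := ⟨le_sup_left, hQ, fun hd =>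
    (Nat.not_even_iff_odd.2 hW) (even_iff_two_dvd.2
      (hd.trans (relIndex_dvd_card_of_le_sup le_sup_left le_rfl h2)))⟩
  obtain ⟨k, hk, hN⟩ := Coprime.exists_conj_normalized h1 (coprime_card_of_isPGroup hP hW')
    (Or.inr (FT.odd_subgroup_solvable hW)) Q fun p hp => by
      have e1 : cj p Q ≤ Q ⊔ W := cj_le_iff.2 fun q hq => by
        have := mul_mem (mem_sup_right (S := Q) (h p hp q hq)) (mem_sup_left (T := W) hq)
        simpa [commutatorElement_def] using this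
      obtain ⟨g, hg, e⟩ := hS.exists_cj_eq (hS.of_card_le (isPGroup_cj p hQ) e1 (card_cj p Q).ge)
      rw [sup_comm] at hg
      obtain ⟨w, hw, q, hq, rfl⟩ := (Core.mem_sup_of_le_normalizer_left h2).1 hg
      rw [cj_mul, cj_eq_of_mem hq] at e
      exact ⟨w, hw, by rw [smul_eq_cj, smul_eq_cj, e]⟩
  rw [smul_eq_cj] at hN
  refine ⟨k, hk, fun p hp q hq => ?_⟩
  have hq' : k * q * k⁻¹ ∈ cj k Q := conj_mem_cj.2 hq
  have e1 : ⁅p, k * q * k⁻¹⁆ ∈ cj k Q := mul_mem (conj_mem_of_mem_normalizer (hN hp) hq') (inv_mem hq')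
  have e2 : ⁅p, k * q * k⁻¹⁆ ∈ W := by
    have a1 := conj_mem_of_mem_normalizer (h1 hp) hk
    have a2 := conj_mem_of_mem_normalizer (h2 hq) (mul_mem (inv_mem a1) hk)
    have := mul_mem (mul_mem (mul_mem a1 (h p hp q hq)) a2) (inv_mem hk)
    convert this using 1
    simp only [commutatorElement_def]
    group
  exact commutatorElement_eq_one_iff_commute.1
    (StdInt.eq_one_of_odd_two (StdInt.odd_of_mem hW e2) (two_of_mem (isPGroup_cj k hQ) e1))

theorem pair (hK : PC 2 K X) (hb : orderOf b = 2) (hX : b ∈ N X) (hn : b ∉ N K) (hQ : IsPGroup 2 Q)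
    (hQK : Q ≤ K) : ∃ g ∈ K, ∀ p ∈ cj g Q, ∀ q ∈ cj g Q, Commute p (b * q * b⁻¹) := by
  have hH : X ⊔ zpowers b ≤ N (pLayerOf 2 X) :=
    (sup_le le_normalizer (zpowers_le.2 hX)).trans (N_le_N_layer X)
  obtain ⟨T, hT, hbT⟩ := exists_isSylowIn_ge (isPGroup_two_zpowers (sq_of_ord hb))
    (le_sup_right : zpowers b ≤ X ⊔ zpowers b)
  have h1 := hT.inf_of_le_normalizer hH
  rw [inf_eq_right.2 ((pLayerOf_le X).trans le_sup_left)] at h1
  have h2 := h1.inf_of_le_normalizer hK.pLayerOf_le_normalizer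
  rw [inf_eq_right.2 hK.le_pLayerOf] at h2
  obtain ⟨g, hg, hle⟩ := h2.exists_cj_le hQ hQK
  have h3 : PC 2 (cj b K) X := by
    have := hK.conj b
    rwa [mem_normalizer_iff_map.1 hX] at this
  have h4 : cj b K ≤ cm K := (hK.eq_or_le_cmod h3).resolve_left fun e =>
    hn (mem_normalizer_iff_cj.2 e.symm)
  refine ⟨g, hg, fun p hp q hq => ?_⟩
  have hb' : b ∈ T := hbT (mem_zpowers b)
  have hq' : b * q * b⁻¹ ∈ T := mul_mem (mul_mem hb' (hle hq).1.1) (inv_mem hb')
  have hp' : p ∈ T := (hle hp).1.1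
  have e1 : ⁅b * q * b⁻¹, p⁆ ∈ O K := mem_cmod.1 (h4 (conj_mem_cj.2 (hle hq).2)) p (hle hp).2
  have e2 : ⁅b * q * b⁻¹, p⁆ ∈ T := mul_mem (mul_mem (mul_mem hq' hp') (inv_mem hq')) (inv_mem hp')
  exact (commutatorElement_eq_one_iff_commute.1 (eq_one_of_mem_O e1 (two_of_mem hT.pgroup e2))).symm

theorem exists_inv_comm (hP : IsPGroup 2 P) (hn : P ≤ N L) (he : Even (Nat.card L)) :
    ∃ v ∈ L, orderOf v = 2 ∧ ∀ x ∈ P, Commute x v := by
  have hH : L ⊔ P ≤ N L := sup_le le_normalizer hn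
  obtain ⟨T, hT, hPT⟩ := exists_isSylowIn_ge hP (le_sup_right : P ≤ L ⊔ P)
  have h1 := hT.inf_of_le_normalizer hH
  rw [inf_eq_right.2 (le_sup_left : L ≤ L ⊔ P)] at h1
  obtain ⟨t, ht, ht2⟩ := exists_involution_of_even he
  have h2 : T ⊓ L ≠ ⊥ := fun e => by
    obtain ⟨g, -, hg⟩ := h1.exists_conj_mem ht (isPGroup_two_zpowers (sq_of_ord ht2))
    rw [e, mem_bot] at hg
    exact ne_one_of_ord ((ord_conj g t).trans ht2) hg
  obtain ⟨v, hv, hv2, hc⟩ := exists_mem_center_of_normalized hT.pgroup inf_le_left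
    (le_normalizer_inf le_normalizer (hT.le.trans hH)) h2
  exact ⟨v, hv.2, hv2, fun x hx => hc x (hPT hx)⟩

theorem mem_of_two (hJ : SubnIn J X) (ha : a ∈ J ⊔ O X) (h2 : Two a) : a ∈ J := by
  obtain ⟨k, hk⟩ := h2
  exact (hJ.of_le le_sup_left (sup_le hJ.le (opOf_le X))).pec_le_of_le_sup le_rfl
    (hJ.le.trans (le_normalizer_opOf X)) (coprime_card_opOf X) (mem_pec_of_pow ha hk)

theorem mem_O_of_odd (ha : a ∈ J) (hc : a ∈ cm J) (ho : Odd (orderOf a)) : a ∈ O J := by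
  have h1 : zpowers a ≤ N (O J) := zpowers_le.2 (le_normalizer_opOf J ha)
  refine le_opOf (N := zpowers a ⊔ O J) (sup_le (zpowers_le.2 ha) (opOf_le J)) (fun j hj => ?_) ?_
    (mem_sup_left (mem_zpowers a))
  · refine mem_normalizer_of_cj_le ?_
    rw [cj_sup, cj_zpowers, mem_normalizer_iff_cj.1 (le_normalizer_opOf J hj)]
    refine sup_le (zpowers_le.2 ?_) le_sup_right
    have := mul_mem (mem_sup_right (S := zpowers a) (inv_mem (mem_cmod.1 hc j hj)))
      (mem_sup_left (T := O J) (mem_zpowers a))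
    simpa [commutatorElement_def, mul_assoc] using this
  · refine Nat.Coprime.coprime_dvd_left (Dvd.intro _ (Core.card_sup_mul_card_inf_of_le_normalizer h1)) ?_
    rw [Nat.card_zpowers]
    exact (ho.mul (odd_card_opOf J)).coprime_two_right

theorem solvable_zen (J : Subgroup G) : Group.IsSolvable (J ⊓ cm J : Subgroup G) := by
  refine Group.isSolvable_iff_commutator_lt.2 fun K hK => ?_
  refine lt_of_le_of_ne (commutator_le_self K) fun e => hK ?_
  have e' : ⁅K.map (J ⊓ cm J).subtype, K.map (J ⊓ cm J).subtype⁆ = K.map (J ⊓ cm J).subtype := by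
    rw [← map_commutator, e]
  refine (map_eq_bot_iff_of_injective _ (J ⊓ cm J).subtype_injective).1
    (Comp.eq_bot_of_perfect_of_le_solvable e' (e'.ge.trans ?_) (FT.odd_subgroup_solvable (odd_card_opOf J)))
  exact commutator_le.2 fun a ha b hb => mem_cmod.1 (map_subtype_le K ha).2 b (map_subtype_le K hb).1

/-- two different components meet in the centre modulo the core -/
theorem PC_ne (hK : PC 2 K X) (hL : PC 2 L X) (h : K ≠ L) : L ≤ cm K := (hK.eq_or_le_cmod hL).resolve_left h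

theorem PC_eq (hK : PC 2 K X) (hL : PC 2 L X) (hJ : IsPQs 2 J) (h1 : J ≤ K) (h2 : J ≤ L) : K = L := by
  by_contra h
  exact hJ.not_le_solvable (solvable_zen K) (le_inf h1 (h2.trans (PC_ne hK hL h)))

/-- an element centralising `K_x` modulo the core centralises `K` modulo the core -/
theorem descend (hK : PC 2 K X) (hx : orderOf x = 2) (hc : x ∈ cm K) (ha : a ∈ X) (hax : a ∈ Cx x)
    (h : ∀ k ∈ Ky 2 K x, ⁅a, k⁆ ∈ O (Cx x)) : a ∈ cm K := by
  have h1 := ky_pc hK hx hc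
  have ha' : zpowers a ≤ X ⊓ Cx x := zpowers_le.2 ⟨ha, hax⟩
  have h2 : a ∈ cm (Ky 2 K x) := by
    have hz : zpowers a ≤ cmod 2 (Ky 2 K x) := by
      refine le_cmod_iff.2 (h1.commutator_le_opOf ha' ?_)
      refine le_trans (le_inf ((commutator_mono h1.le ha').trans (commutator_le_self _)) ?_)
        (inf_opOf_le (K := Cx x) inf_le_right)
      have hO : Cx x ≤ N (O (Cx x)) := le_normalizer_opOf _
      rw [commutator_le]
      intro k hk c hc
      refine comm_mem_of_le_sup (A := closure {a}) (N := O (Cx x)) (J := zpowers a)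
        ((closure_le _).2 (Set.singleton_subset_iff.2 (hO hax))) (hO (ky_le' K x hk)) (fun c hc => ?_)
        ((zpowers_eq_closure a).le.trans le_sup_left) c hc
      induction hc using closure_induction with
      | mem c hc =>
        rw [hc, ← commutatorElement_inv]
        exact inv_mem (h k hk)
      | one => simp
      | mul c d hc _ ih1 ih2 =>
        have hc' : c ∈ Cx x := (closure_le (Cx x)).2 (Set.singleton_subset_iff.2 hax) hc
        have := mul_mem ih1 (conj_mem_of_mem_normalizer (hO hc') ih2)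
        convert this using 1
        simp only [commutatorElement_def]
        group
      | inv c hc ih =>
        have hc' : c ∈ Cx x := (closure_le (Cx x)).2 (Set.singleton_subset_iff.2 hax) hc
        have := conj_mem_of_mem_normalizer' (hO hc') (inv_mem ih)
        convert this using 1
        simp only [commutatorElement_def]
        group
    exact hz (mem_zpowers a)
  exact hK.cmod_of_cover ((ky_le K x).trans hK.le)
    ((opOf_le_of_cover (ky_le K x) (ky_cov hK.pqs hx hc)).trans hK.opOf_le)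
    ((ky_cov hK.pqs hx hc).trans (sup_le_sup_left hK.opOf_le _)) ⟨ha, h2⟩

theorem Ty.cen (h : Ty n J) (ha : a ∈ J) (ha' : a ∈ cm J) (h1 : a ∉ O J) (hb : b ∈ J) (hb' : b ∈ cm J)
    (h2 : b ∉ O J) : a * b ∈ O J := by
  have key : ∀ {a : G} (ha : a ∈ J), a ∈ cm J → piO 2 J ⟨a, ha⟩ ∈ center (J ⧸ pPrimeCore 2 J) := by
    intro a ha ha'
    rw [mem_center_iff]
    intro g
    obtain ⟨k, rfl⟩ := piO_surjective g
    rw [eq_comm, ← commutatorElement_eq_one_iff_mul_comm, ← map_commutatorElement, ← MonoidHom.mem_ker,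
      ker_piO, ← mem_opOf_iff]
    exact mem_cmod.1 ha' k k.2
  have ne : ∀ {a : G} (ha : a ∈ J), a ∉ O J → piO 2 J ⟨a, ha⟩ ≠ 1 := fun ha h1 e => h1 (by
    rw [← MonoidHom.mem_ker, ker_piO, ← mem_opOf_iff] at e
    exact e)
  obtain ⟨y, -, hy⟩ := (Nat.card_eq_two_iff' (1 : center (J ⧸ pPrimeCore 2 J))).1 h.1
  have e1 := hy ⟨_, inv_mem (key ha ha')⟩ fun e => ne ha h1 (inv_eq_one.1 (congrArg Subtype.val e))
  have e2 := hy ⟨_, key hb hb'⟩ fun e => ne hb h2 (congrArg Subtype.val e)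
  have e3 : (piO 2 J ⟨a, ha⟩)⁻¹ = piO 2 J ⟨b, hb⟩ := congrArg Subtype.val (e1.trans e2.symm)
  rw [inv_eq_iff_mul_eq_one, ← map_mul, ← MonoidHom.mem_ker, ker_piO, ← mem_opOf_iff] at e3
  exact e3

theorem Ty.eq (h : Ty n J) (ha : a ∈ J) (ha' : a ∈ cm J) (h1 : orderOf a = 2) (hb : b ∈ J) (hb' : b ∈ cm J)
    (h2 : orderOf b = 2) (hc : Commute a b) : a = b := by
  have e := eq_one_of_mem_O (h.cen ha ha' (not_mem_O h1) hb hb' (not_mem_O h2)) (StdInt.two_of_sq (by
    rw [mul_assoc, ← mul_assoc b, ← hc.eq, mul_assoc, sq_of_ord h2, mul_one, sq_of_ord h1]))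
  exact mul_right_cancel (e.trans (sq_of_ord h2).symm)

/-- the trivial pump-up -/
theorem Pu.tyA (h : Pu n t J L) (hL : IsPQs 2 L) (ht : orderOf t = 2) (hJ : Ty n J) (hc : t ∈ cm L) :
    L ≤ J ⊔ O L ∧ Ty n L := by
  have h1 : L ≤ J ⊔ O L := (ky_cov hL ht hc).trans
    (sup_le ((le_inf (ky_le L t) (ky_le' L t)).trans h.ct) le_sup_right)
  exact ⟨h1, hJ.iso (iso_of_cover h.le h1)⟩

theorem two_set (h1 : cj a K = K ∨ cj a K = L) (h2 : cj a L = K ∨ cj a L = L) : a * a ∈ N K := by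
  rw [mem_normalizer_iff_cj, cj_mul]
  rcases h1 with h1 | h1
  · rw [h1, h1]
  · rcases h2 with h2 | h2
    · rw [h1, h2]
    · have e := cj_injective a (h1.trans h2.symm)
      rw [← e] at h1
      rw [h1, h1]

/-- a simple group with a non-central involution in a Sylow subgroup: no proper subgroup contains the
centralisers of all involutions of a strongly closed subgroup -/
theorem no_sc [IsSimpleGroup G] (hG : ¬ IsMulCommutative G) {S T : Subgroup G} (hS : IsSylowIn 2 S ⊤)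
    (hv : ∃ v ∈ S, v * v = 1 ∧ ∃ s ∈ S, v * s ≠ s * v) (hT : T ≤ S) (h1 : T ≠ ⊥)
    (hsc : ∀ a ∈ T, ∀ g : G, g * a * g⁻¹ ∈ S → g * a * g⁻¹ ∈ T)
    (hM : ∀ v ∈ T, orderOf v = 2 → Cx v ≤ M) : M = ⊤ := by
  by_contra hne
  obtain ⟨H, hH⟩ := Cfsg.Agent.S1174.result hS.toSylowTop T h1 ⟨hT, hsc⟩ fun e =>
    hne (top_le_iff.1 (e.ge.trans (iSup_le fun t => hM t t.2.1 t.2.2)))
  obtain ⟨v, hv, h2, s, hs, e⟩ := hv
  exact e (GHM.comm_of_se hG hS hH hv h2 hs)

end CfsgLib.Sol
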