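import Mathlib
import Cfsg.Agent.Lib.Sol.PctB

/-! The action on `n` points: primitive facts. -/

set_option autoImplicit false
set_option linter.unusedSectionVars false
set_option linter.style.haveILetI false

namespace CfsgLib.Sol

open Cfsg Subgroup CfsgLib.PComp CfsgLib.Tech CfsgLib.W2 Equiv Equiv.Perm
open CfsgLib.LBal hiding cj
open CfsgLib.StdInt (Two)
open CfsgLib.AltAut (tc)
open scoped commutatorElement

universe u

variable {G : Type u} [Group G] [Finite G] {n : ℕ} {X Y J K L M P Q W : Subgroup G} {a b c t u v w x y z : G}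
variable {r : G → Perm (Fin n)}


theorem exists_odd_pow (a : G) : ∃ k : ℕ, Odd (orderOf (a ^ 2 ^ k)) := by
  obtain ⟨k, m, hm, e⟩ := Nat.exists_eq_two_pow_mul_odd (orderOf_pos a).ne'
  exact ⟨k, hm.of_dvd_nat (orderOf_dvd_of_pow_eq_one (by rw [← pow_mul, ← e, pow_orderOf_eq_one]))⟩

theorem exists_two_pow (a : G) : ∃ m : ℕ, Odd m ∧ Two (a ^ m) := by
  obtain ⟨k, m, hm, e⟩ := Nat.exists_eq_two_pow_mul_odd (orderOf_pos a).ne'
  exact ⟨m, hm, k, by rw [← pow_mul, mul_comm, ← e, pow_orderOf_eq_one]⟩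

theorem pi_one {a : J} : piO 2 J a = 1 ↔ (a : G) ∈ O J := by
  rw [mem_opOf_iff]; exact QuotientGroup.eq_one_iff a

/-- the automorphism of `J / O(J)` induced by an element of the normaliser -/
noncomputable def aut (J : Subgroup G) : N J →* MulAut (J ⧸ pPrimeCore 2 J) :=
  haveI := Core.pPrimeCore_characteristic 2 J
  (Fgs.quotAut (pPrimeCore 2 J)).comp J.normalizerMonoidHom

theorem aut_pi (g : N J) (a : J) :
    aut J g (piO 2 J a) = piO 2 J ⟨g * a * g⁻¹, conj_mem_of_mem_normalizer g.2 a.2⟩ := rfl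

theorem aut_eq_one {g : N J} : aut J g = 1 ↔ (g : G) ∈ cm J := by
  rw [mem_cmod]
  constructor
  · intro h k hk
    have := aut_pi g ⟨k, hk⟩
    rw [h, MulAut.one_apply, eq_comm, ← mul_inv_eq_one, ← map_inv, ← map_mul, pi_one] at this
    exact this
  · intro h
    ext x
    obtain ⟨a, rfl⟩ := piO_surjective x
    rw [aut_pi, MulAut.one_apply, ← mul_inv_eq_one, ← map_inv, ← map_mul, pi_one]
    exact h a a.2

theorem Intr.act (h : Intr n X z J) : ∃ r, Act n J z r := by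
  classical
  have h1 : piO 2 J ⟨z, h.mem⟩ ≠ 1 := fun e => not_mem_O h.ord (pi_one.1 e)
  have h2 : orderOf (piO 2 J ⟨z, h.mem⟩) = 2 := ord_two (by
    rw [← map_mul, show (⟨z, h.mem⟩ * ⟨z, h.mem⟩ : J) = 1 from Subtype.ext (sq_of_ord h.ord), map_one]) h1
  obtain ⟨σ, hσ⟩ := McLRec.exists_dbl h2 (mem_center_iff.2 fun x => by
    obtain ⟨a, rfl⟩ := piO_surjective x
    rw [← map_mul, ← map_mul]
    exact congrArg _ (Subtype.ext (mem_Cx.1 (h.cen a.2)))) h.ty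
  have sp := StdInt.AltS.sp_of_dbl hσ h.ge
  generalize (alternatingGroup (Fin n)).subtype.comp σ = ρ at sp
  choose f hf using sp.ind
  have key : ∀ {a : G} (ha : a ∈ N J),
      (if h : a ∈ N J then f (aut J ⟨a, h⟩) else 1) = f (aut J ⟨a, ha⟩) := fun ha => dif_pos ha
  refine ⟨fun a => if h : a ∈ N J then f (aut J ⟨a, h⟩) else 1, h.ge, h.pc.pqs, h.mem, h.ord, h.cen,
    fun {a b} ha hb => ?_, fun {a} ha => ?_, ρ, sp, fun a => ?_⟩
  · rw [key ha, key hb, key (mul_mem ha hb)]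
    refine sp.uniq (hf _) ?_
    rw [show (⟨a * b, mul_mem ha hb⟩ : N J) = ⟨a, ha⟩ * ⟨b, hb⟩ from rfl, map_mul]
    exact StdInt.AltS.Ind.mul (hf _) (hf _)
  · rw [key ha, ← aut_eq_one (g := ⟨a, ha⟩)]
    exact ⟨fun e => sp.ext (e ▸ hf _) StdInt.AltS.ind_one,
      fun e => sp.uniq (hf _) (e ▸ StdInt.AltS.ind_one)⟩
  · rw [key (le_normalizer a.2)]
    refine sp.uniq (StdInt.AltS.ind_conj _) (?_ : StdInt.AltS.Ind ρ (MulAut.conj _) _)
    rw [show MulAut.conj (piO 2 J a) = aut J ⟨a, le_normalizer a.2⟩ from MulEquiv.ext fun x => by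
      obtain ⟨b, rfl⟩ := piO_surjective x
      rw [aut_pi, MulAut.conj_apply, ← map_inv, ← map_mul, ← map_mul]; rfl]
    exact hf _

theorem In.act (h : In n z J) : ∃ r, Act n J z r := h.intr.act

theorem IsDT.sq {α : Type*} [DecidableEq α] {π : Perm α} (h : IsDT π) : π * π = 1 := by
  obtain ⟨a, b, c, d, hn, rfl⟩ := h
  ext p; simp only [Perm.mul_apply, swap_apply_def, Perm.one_apply]; grind

theorem IsDT.inv {α : Type*} [DecidableEq α] {π : Perm α} (h : IsDT π) : π⁻¹ = π :=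
  inv_eq_of_mul_eq_one_right h.sq

theorem IsDT.sign {α : Type*} [DecidableEq α] [Fintype α] {π : Perm α} (h : IsDT π) : sign π = 1 := by
  obtain ⟨a, b, c, d, hn, rfl⟩ := h
  exact StdInt.AltS.sign_dt (by grind) (by grind)

theorem Oct.sign {α : Type*} [DecidableEq α] [Fintype α] {π : Perm α} (h : Oct π) : sign π = 1 := by
  have h1 := sum_cycleType π
  have h2 := cycleType_of_pow_prime_eq_one (p := 2) (σ := π) (by rw [pow_two, h.1])
  rw [h2, Multiset.sum_replicate, h.2, smul_eq_mul] at h1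
  rw [sign_of_cycleType, sum_cycleType, h.2, show π.cycleType.card = 4 by omega]
  decide

theorem sign_of_odd {α : Type*} [DecidableEq α] [Fintype α] {π : Perm α} (h : Odd (orderOf π)) : sign π = 1 :=
  (Int.units_eq_one_or _).resolve_right fun e => by
    have := congrArg sign (pow_orderOf_eq_one π)
    rw [map_pow, e, h.neg_one_pow, map_one] at this
    exact absurd this (by decide)

theorem pow_odd_of_sq {H : Type*} [Group H] {x : H} (h : x * x = 1) {m : ℕ} (hm : Odd m) : x ^ m = x :=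
  StdInt.odd_pow_sq h hm

theorem comm_zpowers (h : Commute x y) : ∀ x' ∈ zpowers x, Commute x' y := by
  rintro _ ⟨k, rfl⟩
  exact h.zpow_left k

namespace Act

variable (A : Act n J z r)
include A

/-- the preimage of a group of permutations -/
def pre (S : Subgroup (Perm (Fin n))) : Subgroup G where
  carrier := {g | g ∈ N J ∧ r g ∈ S}
  one_mem' := ⟨one_mem _, by rw [(A.ker (one_mem _)).2 (one_mem _)]; exact one_mem _⟩
  mul_mem' := fun ha hb => ⟨mul_mem ha.1 hb.1, by rw [A.mul ha.1 hb.1]; exact mul_mem ha.2 hb.2⟩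
  inv_mem' := fun {a} ha => ⟨inv_mem ha.1, by
    have := A.mul (inv_mem ha.1) ha.1
    rw [inv_mul_cancel, (A.ker (one_mem _)).2 (one_mem _)] at this
    rw [eq_inv_of_mul_eq_one_left this.symm]; exact inv_mem ha.2⟩

theorem mem_pre {S : Subgroup (Perm (Fin n))} : a ∈ A.pre S ↔ a ∈ N J ∧ r a ∈ S := Iff.rfl

theorem one : r 1 = 1 := (A.ker (one_mem _)).2 (one_mem _)

/-- the action as a homomorphism -/
def hom : N J →* Perm (Fin n) where
  toFun a := r a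
  map_one' := A.one
  map_mul' a b := A.mul a.2 b.2

theorem hom_apply (a : N J) : A.hom a = r a := rfl

/-- the image of a subgroup of the normaliser -/
def img (M : Subgroup G) : Subgroup (Perm (Fin n)) := sInf {S | M ⊓ N J ≤ A.pre S}

theorem mem_img (hM : M ≤ N J) {π : Perm (Fin n)} : π ∈ A.img M ↔ ∃ a ∈ M, r a = π := by
  refine ⟨fun h => ?_, fun ⟨a, ha, e⟩ => mem_sInf.2 fun S hS => e ▸ (hS ⟨ha, hM ha⟩).2⟩
  obtain ⟨a, ha, e⟩ := mem_sInf.1 h ((M.subgroupOf (N J)).map A.hom) fun a ha => ⟨ha.2, ⟨a, ha.2⟩, ha.1, rfl⟩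
  exact ⟨a, ha, e⟩

theorem img_eq (hM : M ≤ N J) : A.img M = (M.subgroupOf (N J)).map A.hom := by
  ext π
  rw [A.mem_img hM]
  exact ⟨fun ⟨a, ha, e⟩ => ⟨⟨a, hM ha⟩, ha, e⟩, fun ⟨a, ha, e⟩ => ⟨a, ha, e⟩⟩

theorem inv (ha : a ∈ N J) : r a⁻¹ = (r a)⁻¹ := map_inv A.hom ⟨a, ha⟩

theorem pow (ha : a ∈ N J) (k : ℕ) : r (a ^ k) = r a ^ k := map_pow A.hom ⟨a, ha⟩ k

theorem zpow (ha : a ∈ N J) (k : ℤ) : r (a ^ k) = r a ^ k := map_zpow A.hom ⟨a, ha⟩ k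

theorem conj (ha : a ∈ N J) (hb : b ∈ N J) : r (a * b * a⁻¹) = r a * r b * (r a)⁻¹ := by
  rw [A.mul (mul_mem ha hb) (inv_mem ha), A.mul ha hb, A.inv ha]

theorem comm (ha : a ∈ N J) (hb : b ∈ N J) : r ⁅a, b⁆ = ⁅r a, r b⁆ :=
  map_commutatorElement A.hom ⟨a, ha⟩ ⟨b, hb⟩

theorem commute (ha : a ∈ N J) (hb : b ∈ N J) (h : Commute a b) : Commute (r a) (r b) := by
  rw [Commute, SemiconjBy, ← A.mul ha hb, ← A.mul hb ha, h.eq]

theorem orderOf_dvd (ha : a ∈ N J) : orderOf (r a) ∣ orderOf a :=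
  orderOf_dvd_of_pow_eq_one (by rw [← A.pow ha, pow_orderOf_eq_one, A.one])

theorem sq_one (ha : a ∈ N J) (h : a * a = 1) : r a * r a = 1 := by rw [← A.mul ha ha, h, A.one]

theorem invol (ha : a ∈ N J) (h : a * a = 1) (p : Fin n) : r a (r a p) = p :=
  DFunLike.congr_fun (A.sq_one ha h) p

theorem zz : z * z = 1 := sq_of_ord A.ord

theorem cz (ha : a ∈ J) : Commute a z := mem_Cx.1 (A.cen ha)

theorem rz : r z = 1 :=
  (A.ker (le_normalizer A.mem)).2 (centralizer_le_cmod J fun _ hj => A.cz hj)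

theorem rO (ha : a ∈ O J) : r a = 1 := (A.ker (le_normalizer (opOf_le J ha))).2 (opOf_le_cmod J ha)

theorem eq_of_mem_O (ha : a ∈ N J) (hb : b ∈ N J) (h : a⁻¹ * b ∈ O J) : r a = r b := by
  have := A.rO h
  rwa [A.mul (inv_mem ha) hb, A.inv ha, inv_mul_eq_one] at this

theorem ev (ha : a ∈ J) : sign (r a) = 1 := by
  obtain ⟨ρ, sp, e⟩ := A.sp
  rw [← e ⟨a, ha⟩, sp.ev]

theorem surj {π : Perm (Fin n)} (h : sign π = 1) : ∃ a ∈ J, r a = π := by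
  obtain ⟨ρ, sp, e⟩ := A.sp
  obtain ⟨x, rfl⟩ := sp.surj π h
  obtain ⟨a, rfl⟩ := piO_surjective x
  exact ⟨a, a.2, (e a).symm⟩

theorem zen (ha : a ∈ J) (h : r a = 1) : a ∈ O J ∨ a * z ∈ O J := by
  obtain ⟨ρ, sp, e⟩ := A.sp
  refine (sp.ker.1 ((e ⟨a, ha⟩).trans h)).imp pi_one.1 fun f => ?_
  refine (pi_one (a := ⟨a, ha⟩ * ⟨z, A.mem⟩)).1 ?_
  rw [map_mul, f, sp.tt]

theorem eqz (ha : a ∈ J) (h : r a = 1) (h2 : Two a) : a = 1 ∨ a = z := by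
  refine (A.zen ha h).imp (fun e => eq_one_of_mem_O e h2) fun e => ?_
  obtain ⟨k, hk⟩ := h2
  have := eq_one_of_mem_O e ⟨k + 1, by
    rw [(A.cz ha).mul_pow, pow_succ, pow_mul, hk, one_pow, mul_comm, pow_mul, pow_two, A.zz, one_pow, one_mul]⟩
  rw [eq_inv_of_mul_eq_one_left this, inv_eq_of_mul_eq_one_right A.zz]

theorem z_mem (ha : a ∈ M) (hc : a ∈ Cx z) (h : a * z ∈ O J) : z ∈ M := by
  have h1 := pow_orderOf_eq_one (a * z)
  rw [(show Commute a z from mem_Cx.1 hc).mul_pow, pow_odd_of_sq A.zz (odd_of_mem_O h)] at h1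
  rw [eq_inv_of_mul_eq_one_right h1]
  exact inv_mem (pow_mem ha _)

theorem dt (ha : a ∈ J) (h : IsDT (r a)) : a * a * z ∈ O J := by
  obtain ⟨ρ, sp, e⟩ := A.sp
  obtain ⟨p, q, s, t, hn, h⟩ := h
  refine (pi_one (a := ⟨a, ha⟩ * ⟨a, ha⟩ * ⟨z, A.mem⟩)).1 ?_
  rw [map_mul, map_mul, sp.dt _ p q s t hn ((e ⟨a, ha⟩).trans h), sp.tt]

theorem dt_mem (ha : a ∈ J) (hM : a ∈ M) (h : IsDT (r a)) : z ∈ M :=
  A.z_mem (mul_mem hM hM) (A.cen (mul_mem ha ha)) (A.dt ha h)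

/-- an odd power of a lift of a double transposition has square `z` -/
theorem dt_pow (ha : a ∈ J) (h : IsDT (r a)) : ∃ k, r (a ^ k) = r a ∧ a ^ k * a ^ k = z := by
  have h1 := pow_orderOf_eq_one (a * a * z)
  have h2 := odd_of_mem_O (A.dt ha h)
  rw [(A.cz (mul_mem ha ha)).mul_pow, pow_odd_of_sq A.zz h2, (Commute.refl a).mul_pow] at h1
  exact ⟨_, by rw [A.pow (le_normalizer ha), pow_odd_of_sq h.sq h2],
    (eq_inv_of_mul_eq_one_left h1).trans (inv_eq_of_mul_eq_one_right A.zz)⟩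

theorem anti (ha : a ∈ N J) (hb : b ∈ J) (h1 : IsDT (r a)) (h2 : IsDT (r b)) (h3 : IsDT (r a * r b)) :
    ⁅a, b⁆ * z ∈ O J := by
  obtain ⟨c, hc, e0⟩ := A.surj h1.sign
  obtain ⟨ρ, sp, e⟩ := A.sp
  have h0 : StdInt.AltS.Ind ρ (aut J ⟨a, ha⟩) (ρ (piO 2 J ⟨c, hc⟩)) := fun x => by
    obtain ⟨y, rfl⟩ := piO_surjective x
    rw [aut_pi, e, e, e, e0]
    exact A.conj ha (le_normalizer y.2)
  have h4 := DFunLike.congr_fun (sp.ext h0 (StdInt.AltS.ind_conj _)) (piO 2 J ⟨b, hb⟩)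
  rw [aut_pi, MulAut.conj_apply] at h4
  have k : ∀ y : J, IsDT (r y) → piO 2 J y * piO 2 J y = piO 2 J ⟨z, A.mem⟩ := fun y ⟨p, q, s, t, hn, h⟩ =>
    sp.dt _ p q s t hn ((e y).trans h)
  have k1 := k ⟨c, hc⟩ (e0 ▸ h1)
  have k2 := k ⟨b, hb⟩ h2
  have k3 := k (⟨c, hc⟩ * ⟨b, hb⟩) (by
    rw [show r (⟨c, hc⟩ * ⟨b, hb⟩ : J) = r c * r b from A.mul (le_normalizer hc) (le_normalizer hb), e0]; exact h3)
  refine (pi_one (a := ⟨a * b * a⁻¹, conj_mem_of_mem_normalizer ha hb⟩ * (⟨b, hb⟩ : J)⁻¹ * ⟨z, A.mem⟩)).1 ?_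
  rw [map_mul] at k3
  rw [map_mul, map_mul, map_inv]
  erw [h4]
  generalize piO 2 J ⟨c, hc⟩ = i, piO 2 J ⟨b, hb⟩ = j, piO 2 J ⟨z, A.mem⟩ = t at *
  calc _ = (i * j * (i * j)) * (j⁻¹ * (i * i)⁻¹ * j⁻¹ * t) := by group
    _ = 1 := by
      rw [k3, k1, mul_assoc, mul_assoc, sp.comm, inv_mul_cancel_left, ← mul_inv_rev, k2, mul_inv_cancel]

theorem ne_pi (hu : u ∈ J) (h1 : orderOf u = 2) (h2 : u ≠ z) : piO 2 J ⟨u, hu⟩ * piO 2 J ⟨u, hu⟩ = 1 ∧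
    piO 2 J ⟨u, hu⟩ ≠ 1 ∧ piO 2 J ⟨u, hu⟩ ≠ piO 2 J ⟨z, A.mem⟩ := by
  refine ⟨by rw [← map_mul, show (⟨u, hu⟩ * ⟨u, hu⟩ : J) = 1 from Subtype.ext (sq_of_ord h1), map_one],
    fun e => not_mem_O h1 (pi_one.1 e), fun f => ?_⟩
  obtain ⟨ρ, sp, e⟩ := A.sp
  exact (A.eqz hu (by rw [← e ⟨u, hu⟩, f, sp.rt]) (two_of_ord h1)).elim (ne_one_of_ord h1) h2

theorem r_ne (hu : u ∈ J) (h1 : orderOf u = 2) (h2 : u ≠ z) : r u ≠ 1 := fun e =>
  (A.eqz hu e (two_of_ord h1)).elim (ne_one_of_ord h1) h2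

theorem eight (hu : u ∈ J) (h1 : orderOf u = 2) (h2 : u ≠ z) : ∃ m, (r u).support.card = 8 * (m + 1) := by
  obtain ⟨a1, a2, a3⟩ := A.ne_pi hu h1 h2
  obtain ⟨ρ, sp, e⟩ := A.sp
  rw [← e ⟨u, hu⟩]
  exact sp.eight a1 a2 a3

theorem neg_lift (hu : u ∈ J) (h1 : u * u = 1) {p q : Fin n} (hn : [p, r u p, q, r u q].Nodup) (hy : y ∈ J)
    (h : r y = swap p q * swap (r u p) (r u q)) : y * u * y⁻¹ * u * z ∈ O J := by
  obtain ⟨ρ, sp, e⟩ := A.sp
  have h2 : piO 2 J ⟨u, hu⟩ * piO 2 J ⟨u, hu⟩ = 1 := by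
    rw [← map_mul, show (⟨u, hu⟩ * ⟨u, hu⟩ : J) = 1 from Subtype.ext h1, map_one]
  have h3 := sp.neg_lift h2 (a := p) (b := q) (by rwa [e]) (l := piO 2 J ⟨y, hy⟩) (by rwa [e, e])
  refine (pi_one (a := ⟨y, hy⟩ * ⟨u, hu⟩ * (⟨y, hy⟩ : J)⁻¹ * ⟨u, hu⟩ * ⟨z, A.mem⟩)).1 ?_
  rw [map_mul, map_mul, map_mul, map_mul, map_inv, h3, sp.comm (piO 2 J ⟨u, hu⟩),
    mul_assoc _ _ (piO 2 J ⟨u, hu⟩), h2, mul_one, sp.tt]

theorem neg (hu : u ∈ J) (h1 : orderOf u = 2) (h2 : u ≠ z) : ∃ l ∈ J, l * u * l⁻¹ = u * z := by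
  obtain ⟨m, hm⟩ := A.eight hu h1 h2
  have uu := sq_of_ord h1
  have i := A.invol (le_normalizer hu) uu
  obtain ⟨p, a1, -⟩ := StdInt.AltS.exists_blk (r u) [] (by rw [List.length_nil]; omega)
  obtain ⟨q, a2, a3⟩ := StdInt.AltS.exists_blk (r u) [p] (by simp; omega)
  have a4 := a3 p (by simp)
  have hn : [p, r u p, q, r u q].Nodup := by grind
  obtain ⟨y, hy, e⟩ := A.surj (StdInt.AltS.sign_dt (a := p) (b := q) (c := r u p) (d := r u q) (by grind) (by grind))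
  obtain ⟨o, ho, f⟩ := fr (odd_card_opOf J) (a := y * u * y⁻¹) (b := u * z) (by rw [conj_mul, uu]; simp)
    (by rw [(A.cz hu).symm.mul_mul_mul_comm, uu, A.zz, one_mul]) (mul_assoc _ u z ▸ A.neg_lift hu uu hn hy e)
  exact ⟨o⁻¹ * y, mul_mem (inv_mem (opOf_le J ho)) hy, by
    rw [show o⁻¹ * y * u * (o⁻¹ * y)⁻¹ = o⁻¹ * (y * u * y⁻¹) * o by group, ← f]; group⟩

theorem isConj (hn : n ≤ 15) (hu : u ∈ J) (h1 : orderOf u = 2) (h2 : u ≠ z) (hv : v ∈ J) (h3 : orderOf v = 2)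
    (h4 : v ≠ z) : ∃ l ∈ J, l * u * l⁻¹ = v := by
  obtain ⟨a1, a2, a3⟩ := A.ne_pi hu h1 h2
  obtain ⟨b1, b2, b3⟩ := A.ne_pi hv h3 h4
  obtain ⟨ρ, sp, e⟩ := A.sp
  obtain ⟨x, hx⟩ := isConj_iff.1 (sp.one (by simpa using hn) _ _ a1 a2 a3 b1 b2 b3)
  obtain ⟨y, rfl⟩ := piO_surjective x
  obtain ⟨o, ho, f⟩ := fr (odd_card_opOf J) (a := v) (b := y * u * (y : G)⁻¹) (sq_of_ord h3)
    (by rw [conj_mul, sq_of_ord h1]; simp)
    ((pi_one (a := ⟨v, hv⟩ * (y * ⟨u, hu⟩ * y⁻¹))).1 (by rw [map_mul, map_mul, map_mul, map_inv, hx, b1]))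
  exact ⟨o * y, mul_mem (opOf_le J ho) y.2, by rw [← f]; group⟩

theorem ind (hx : x ∈ N J) {ρ : (J ⧸ pPrimeCore 2 J) →* Perm (Fin n)} (e : ∀ a : J, ρ (piO 2 J a) = r a) :
    StdInt.AltS.Ind ρ (aut J ⟨x, hx⟩) (r x) := fun y => by
  obtain ⟨y, rfl⟩ := piO_surjective y
  rw [aut_pi, e, e]
  exact A.conj hx (le_normalizer y.2)

omit A in
theorem comm_of_fix (hx : x ∈ N J) (hy : y ∈ J) (h : aut J ⟨x, hx⟩ (piO 2 J ⟨y, hy⟩) = piO 2 J ⟨y, hy⟩) :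
    ⁅x, y⁆ ∈ O J := by
  rw [aut_pi, ← mul_inv_eq_one, ← map_inv, ← map_mul, pi_one] at h
  exact h

theorem fix_disj (hx : x ∈ N J) (hy : y ∈ J) (h : Perm.Disjoint (r x) (r y)) : ⁅x, y⁆ ∈ O J := by
  obtain ⟨ρ, sp, e⟩ := A.sp
  exact comm_of_fix hx hy (sp.fix (A.ind hx e) _ (by rwa [e]))

theorem fix_odd (hx : x ∈ N J) (hy : y ∈ J) (ho : Odd (orderOf y)) (h : Commute (r x) (r y)) : ⁅x, y⁆ ∈ O J := by
  obtain ⟨ρ, sp, e⟩ := A.sp
  exact comm_of_fix hx hy (sp.fix_odd (A.ind hx e)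
    (ho.of_dvd_nat ((orderOf_map_dvd _ _).trans (orderOf_coe (⟨y, hy⟩ : J)).symm.dvd)) (by rwa [e]))

theorem lift (hP : IsPGroup 2 P) (hn : P ≤ N J) (hy : y ∈ J) (h : ∀ x ∈ P, ⁅x, y⁆ ∈ O J) :
    ∃ y' ∈ J, (∀ x ∈ P, Commute x y') ∧ r y' = r y ∧ y'⁻¹ * y ∈ O J := by
  obtain ⟨y', a1, a2, a3⟩ := lift2 hP hn hy h
  exact ⟨y', a1, a2, A.eq_of_mem_O (le_normalizer a1) (le_normalizer hy) a3, a3⟩

theorem odd_pow (ha : a ∈ N J) (ho : Odd (orderOf (r a))) : ∃ k : ℕ, Odd (orderOf (a ^ k)) ∧ r (a ^ k) = r a := by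
  obtain ⟨k, hk⟩ := exists_odd_pow a
  obtain ⟨j, hj⟩ := exists_pow_eq_self_of_coprime (x := r a) (n := 2 ^ k)
    ((Nat.coprime_two_left.2 ho).pow_left k)
  exact ⟨2 ^ k * j, by rw [pow_mul]; exact hk.of_dvd_nat (orderOf_pow_dvd j), by rw [A.pow ha, pow_mul, hj]⟩

/-- lifting a permutation of odd order into a centraliser -/
theorem lift_odd (hP : IsPGroup 2 P) (hn : P ≤ N J) {π : Perm (Fin n)} (ho : Odd (orderOf π))
    (h : ∀ x ∈ P, Commute (r x) π) : ∃ y ∈ J, (∀ x ∈ P, Commute x y) ∧ Odd (orderOf y) ∧ r y = π := by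
  obtain ⟨a, ha, rfl⟩ := A.surj (sign_of_odd ho)
  obtain ⟨k, a1, a2⟩ := A.odd_pow (le_normalizer ha) ho
  obtain ⟨b, hb, b1, b2, -⟩ := A.lift hP hn (pow_mem ha k) fun x hx =>
    A.fix_odd (hn hx) (pow_mem ha k) a1 (a2 ▸ h x hx)
  obtain ⟨l, c1, c2⟩ := A.odd_pow (le_normalizer hb) (by rwa [b2, a2])
  exact ⟨_, pow_mem hb l, fun x hx => (b1 x hx).pow_right l, c1, by rw [c2, b2, a2]⟩

/-- lifting a permutation with disjoint support into a centraliser -/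
theorem lift_disj (hP : IsPGroup 2 P) (hn : P ≤ N J) {π : Perm (Fin n)} (hs : sign π = 1)
    (h : ∀ x ∈ P, Perm.Disjoint (r x) π) : ∃ y ∈ J, (∀ x ∈ P, Commute x y) ∧ r y = π := by
  obtain ⟨a, ha, rfl⟩ := A.surj hs
  obtain ⟨b, hb, b1, b2, -⟩ := A.lift hP hn ha fun x hx => A.fix_disj (hn hx) ha (h x hx)
  exact ⟨b, hb, b1, b2⟩

/-- the version for one element -/
theorem lift_odd' (hx : x ∈ N J) (h2 : Two x) {π : Perm (Fin n)} (ho : Odd (orderOf π)) (h : Commute (r x) π) :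
    ∃ y ∈ J, Commute x y ∧ Odd (orderOf y) ∧ r y = π := by
  obtain ⟨y, a1, a2, a3⟩ := A.lift_odd (two_iff.1 h2) (zpowers_le.2 hx) ho (by
    rintro _ ⟨k, rfl⟩
    exact A.zpow hx k ▸ h.zpow_left k)
  exact ⟨y, a1, a2 x (mem_zpowers x), a3⟩

theorem lift_disj' (hx : x ∈ N J) (h2 : Two x) {π : Perm (Fin n)} (hs : sign π = 1) (h : Perm.Disjoint (r x) π) :
    ∃ y ∈ J, Commute x y ∧ r y = π := by
  obtain ⟨y, a1, a2, a3⟩ := A.lift_disj (two_iff.1 h2) (zpowers_le.2 hx) hs (by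
    rintro _ ⟨k, rfl⟩
    exact A.zpow hx k ▸ by simpa using h.zpow_disjoint_zpow k 1)
  exact ⟨y, a1, a2 x (mem_zpowers x), a3⟩

/-- lifting a three-cycle on fixed points -/
theorem lift_tc (hx : x ∈ N J) (h2 : Two x) {p q s : Fin n} (hn : [p, q, s].Nodup) (hp : r x p = p) (hq : r x q = q)
    (hs : r x s = s) : ∃ y ∈ J, Commute x y ∧ Odd (orderOf y) ∧ r y = tc p q s :=
  A.lift_odd' hx h2 (StdInt.odd_of_pow (by decide) (StdInt.AltS.tc_cube hn))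
    (StdInt.AltS.comm_of_conj (by rw [StdInt.AltS.conj_tc, hp, hq, hs]))

/-- lifting a cycle of three blocks -/
theorem lift_tri (hx : x ∈ N J) (h1 : x * x = 1) {p q s : Fin n} (hn : [p, q, s, r x p, r x q, r x s].Nodup) :
    ∃ y ∈ J, Commute x y ∧ Odd (orderOf y) ∧ r y = tc p q s * tc (r x p) (r x q) (r x s) :=
  A.lift_odd' hx (StdInt.two_of_sq h1) (StdInt.odd_of_pow (by decide) (StdInt.AltS.tc_tc_cube hn))
    (StdInt.AltS.comm_of_conj (by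
      rw [← conj_mul, StdInt.AltS.conj_tc, StdInt.AltS.conj_tc, A.invol hx h1, A.invol hx h1, A.invol hx h1,
        (StdInt.AltS.tc_tc_comm hn).eq]))

/-- a pair of blocks is the product of two lifted cycles of blocks -/
theorem lift_blk' (hx : x ∈ N J) (h1 : x * x = 1) {p q s : Fin n} (hn : [p, q, s, r x p, r x q, r x s].Nodup) :
    ∃ a ∈ J, ∃ b ∈ J, Commute x a ∧ Commute x b ∧ Odd (orderOf a) ∧ Odd (orderOf b) ∧
      r (a * b) = swap q (r x q) * swap s (r x s) := by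
  have i := A.invol hx h1
  obtain ⟨a, a1, a2, a3, a4⟩ := A.lift_tri hx h1 (p := p) (q := r x q) (s := s) (by grind)
  obtain ⟨b, b1, b2, b3, b4⟩ := A.lift_tri hx h1 (p := p) (q := s) (s := q) (by grind)
  refine ⟨a, a1, b, b1, a2, b2, a3, b3, ?_⟩
  rw [A.mul (le_normalizer a1) (le_normalizer b1), a4, b4, i]
  generalize r x p = a', r x q = b', r x s = c' at hn
  clear * - hn
  ext e; simp only [tc, Perm.mul_apply, swap_apply_def]; grind

/-- lifting a pair of blocks -/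
theorem lift_blk (hx : x ∈ N J) (h1 : x * x = 1) {p q s : Fin n} (hn : [p, q, s, r x p, r x q, r x s].Nodup) :
    ∃ y ∈ J, Commute x y ∧ r y = swap q (r x q) * swap s (r x s) := by
  obtain ⟨a, a1, b, b1, a2, b2, -, -, e⟩ := A.lift_blk' hx h1 hn
  exact ⟨_, mul_mem a1 b1, a2.mul_right b2, e⟩

theorem sq_oct (ha : a ∈ J) (h : r a = 1 ∨ Oct (r a)) : a * a ∈ O J := by
  obtain ⟨ρ, sp, e⟩ := A.sp
  obtain ⟨m, m1, m2⟩ := sp.sq (piO 2 J ⟨a, ha⟩) fun p => by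
    rw [e]
    rcases h with h | h
    · rw [h]; rfl
    · exact DFunLike.congr_fun h.1 p
  refine (pi_one (a := ⟨a, ha⟩ * ⟨a, ha⟩)).1 ?_
  rw [e] at m1
  rw [map_mul, m2]
  rcases h with h | h
  · rw [show m = 0 by rw [h, support_one, Finset.card_empty] at m1; omega, pow_zero]
  · rw [show m = 2 by rw [h.2] at m1; omega, pow_two, sp.tt]

/-- lifting an involution with eight moved points -/
theorem lift_oct (hP : P ≤ J) (h2 : ∀ x ∈ P, x * x = 1) {π : Perm (Fin n)} (ho : Oct π)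
    (h : ∀ x ∈ P, r x * π = 1 ∨ Oct (r x * π)) : ∃ y ∈ J, orderOf y = 2 ∧ (∀ x ∈ P, Commute x y) ∧ r y = π := by
  obtain ⟨a, ha, rfl⟩ := A.surj ho.sign
  have h3 := A.sq_oct ha (.inr ho)
  obtain ⟨b, hb, b1, b2, -⟩ := A.lift (isPGroup_iff_mem.2 fun x hx => StdInt.two_of_sq (h2 x hx))
    (hP.trans le_normalizer) ha fun x hx => by
      have h4 := A.sq_oct (mul_mem (hP hx) ha) (by
        rw [A.mul (le_normalizer (hP hx)) (le_normalizer ha)]; exact h x hx)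
      rw [show ⁅x, a⁆ = x * a * (x * a) * (a * a)⁻¹ by
        rw [commutatorElement_def, inv_eq_of_mul_eq_one_right (h2 x hx)]; group]
      exact mul_mem h4 (inv_mem h3)
  have h4 := A.sq_oct hb (.inr (b2 ▸ ho))
  have h5 := odd_of_mem_O h4
  have h6 : r (b ^ orderOf (b * b)) = r a := by rw [A.pow (le_normalizer hb), b2, pow_odd_of_sq ho.1 h5]
  refine ⟨_, pow_mem hb _, ord_two (by rw [← (Commute.refl b).mul_pow, pow_orderOf_eq_one]) fun e => ?_,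
    fun x hx => (b1 x hx).pow_right _, h6⟩
  have h7 := ho.2
  rw [← h6, e, A.one] at h7
  simp at h7

end Act

end CfsgLib.Sol
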