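import Mathlib
import Cfsg.Agent.Lib.Sol.Act0

/-! Subgroups normalised by the centraliser of an involution. -/

set_option autoImplicit false
set_option linter.unusedSectionVars false
set_option linter.style.haveILetI false

namespace CfsgLib.Sol

open Cfsg Subgroup CfsgLib.PComp CfsgLib.Tech CfsgLib.W2 Equiv Equiv.Perm
open CfsgLib.LBal hiding cj
open CfsgLib.StdInt (Two)
open CfsgLib.AltAut (tc)
open scoped commutatorElement

universe u

variable {G : Type u} [Group G] [Finite G] {n : ℕ} {X Y J K L M P Q W : Subgroup G} {a b c t u v w x y z : G}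
variable {r : G → Perm (Fin n)}

open CfsgLib.StdInt.AltS in
/-- the permutations moving points only along an involution -/
def blS {α : Type*} [DecidableEq α] [Fintype α] (π : Perm α) (h : ∀ y, π (π y) = y) : Subgroup (Perm α) where
  carrier := {g | Bl π g}
  one_mem' := fun _ => Or.inl rfl
  mul_mem' := fun ha hb => Bl.mul h ha hb
  inv_mem' := fun ha => by rw [inv_eq_of_mul_eq_one_right (Bl.sq h ha)]; exact ha

theorem root_apply {α : Type*} {π g : Perm α} (h1 : π * π = 1) (h2 : g * g = π) {p : α} (hp : π p ≠ p) :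
    g p ≠ p ∧ g p ≠ π p ∧ π (g p) ≠ g p := by
  have a1 : ∀ y, g (g y) = π y := fun y => DFunLike.congr_fun h2 y
  have a2 : ∀ y, π (π y) = y := fun y => DFunLike.congr_fun h1 y
  have a3 := a1 p
  have a4 := a1 (g p)
  have a5 := g.injective
  refine ⟨fun e => hp (by rw [← a3, e, e]), fun e => hp ?_, fun e => hp (a5 (by rw [← a3, a4, e]))⟩
  rw [← a3, e, ← a3, a4, e, a2]

namespace Act

open CfsgLib.StdInt.AltS

variable (A : Act n J z r)
include A

theorem lift_disj1 (hx : x ∈ N J) (h2 : Two x) {π : Perm (Fin n)} (hs : sign π = 1) (h : Perm.Disjoint (r x) π) :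
    ∃ y ∈ J, Commute x y ∧ r y = π := by
  obtain ⟨y, hy, y1, y2⟩ := A.lift_disj (two_iff.1 h2) (zpowers_le.2 hx) hs fun x' hx' => by
    obtain ⟨k, rfl⟩ := mem_powers_iff_mem_zpowers.2 hx'
    simpa [A.pow hx] using h.pow_disjoint_pow k 1
  exact ⟨y, hy, y1 x (mem_zpowers x), y2⟩

theorem lift_odd1 (hx : x ∈ N J) (h2 : Two x) {π : Perm (Fin n)} (ho : Odd (orderOf π)) (h : Commute (r x) π) :
    ∃ y ∈ J, Commute x y ∧ Odd (orderOf y) ∧ r y = π := by
  obtain ⟨y, hy, y1, y2⟩ := A.lift_odd (two_iff.1 h2) (zpowers_le.2 hx) ho fun x' hx' => by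
    obtain ⟨k, rfl⟩ := mem_powers_iff_mem_zpowers.2 hx'
    simpa [A.pow hx] using h.pow_left k
  exact ⟨y, hy, y1 x (mem_zpowers x), y2⟩

theorem comm_mem (hM : M ≤ N J) (ha : a ∈ M) (hy : y ∈ J) (hn : y ∈ N M) (h : IsDT ⁅r a, r y⁆) : z ∈ M := by
  refine A.dt_mem (a := ⁅a, y⁆) (mul_mem (conj_mem_of_mem_normalizer (hM ha) hy) (inv_mem hy)) ?_
    (by rwa [A.comm (hM ha) (le_normalizer hy)])
  rw [show ⁅a, y⁆ = a * (y * a⁻¹ * y⁻¹) by group]
  exact mul_mem ha (conj_mem_of_mem_normalizer hn (inv_mem ha))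

/-- (N), first case -/
theorem nrm1 (hx : x ∈ N J) (h1 : x * x = 1) (hM : M ≤ N J ⊓ Cx x) (hn : J ⊓ Cx x ≤ N M) (ha : a ∈ M)
    (ho : Odd (orderOf (r a))) {p : Fin n} (hp : r x p ≠ p) (hq : r a p ≠ p) : z ∈ M := by
  have hπ := A.invol hx h1
  have c := comm_apply (A.commute (hM ha).1 hx (mem_Cx.1 (hM ha).2))
  have inj := (r a).injective
  have e1 : r a (r a p) ≠ p := fun e => hq (fix_of_sq ho e)
  have e2 : r a p ≠ r x p := fun e => e1 (by rw [e, c, e, hπ])
  have e3 : r a (r a p) ≠ r x p := fun e => e1 (by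
    have : (r a * r a) ((r a * r a) p) = p := by simp only [Perm.mul_apply]; rw [e, c, c, e, hπ]
    exact fix_of_sq (ho.of_dvd_nat (by rw [← pow_two]; exact orderOf_pow_dvd 2)) this)
  have e4 : r a (r a p) ≠ r a p := inj.ne hq
  have e5 : r a (r a p) ≠ r x (r a p) := by rw [← c]; exact inj.ne e2
  have e6 : r x (r a p) ≠ r a p := by rw [← c]; exact inj.ne hp
  have e7 : r x (r a (r a p)) ≠ r a (r a p) := by rw [← c]; exact inj.ne e6
  have hd := nd3 hπ hp e6 e7 ⟨hq, e2⟩ ⟨e1, e3⟩ ⟨e4, e5⟩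
  obtain ⟨y, hy, y1, y2⟩ := A.lift_blk hx h1 (p := r a (r a p)) (q := p) (s := r a p) (by clear * - hd; grind)
  refine A.comm_mem (hM.trans inf_le_left) ha hy (hn ⟨hy, mem_Cx.2 y1.symm⟩)
    ⟨r a (r a p), r x (r a (r a p)), p, r x p, by clear * - hd; grind, ?_⟩
  rw [commutatorElement_def, y2, ← conj_mul, conj_swap, conj_swap, c, c, mul_inv_rev, swap_inv, swap_inv]
  generalize r a (r a p) = s at *
  generalize r a p = q at *
  generalize r x p = p', r x q = q', r x s = s' at hd ⊢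
  clear * - hd
  ext z; simp only [Perm.mul_apply, swap_apply_def]; grind

/-- (N), second case -/
theorem nrm2 (hx : x ∈ N J) (h1 : x * x = 1) (hM : M ≤ N J ⊓ Cx x) (hn : J ⊓ Cx x ≤ N M) (ha : a ∈ M)
    (ho : Odd (orderOf (r a))) (hq : r a ≠ 1) (h4 : (r x).support.card + 4 ≤ n) : z ∈ M := by
  by_contra hz
  have h5 : r a ∈ fixS (r x) := fun p hp => by_contra fun e => hz (A.nrm1 hx h1 hM hn ha ho hp e)
  have h6 : ∀ p, r a p ≠ p → r x p = p := fun p hp => by_contra fun e => hp (h5 p e)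
  obtain ⟨p, hp⟩ : ∃ p, r a p ≠ p := by
    by_contra! hc
    exact hq (Equiv.ext hc)
  have inj := (r a).injective
  have e1 : r a (r a p) ≠ p := fun e => hp (fix_of_sq ho e)
  have e2 : r a (r a p) ≠ r a p := inj.ne hp
  obtain ⟨d, d1, d2⟩ := exists_fixed (r x) [p, r a p, r a (r a p)] (by simp; omega)
  have hle : M ⊓ A.pre (fixS (r x)) ≤ N J := fun g hg => hg.2.1
  obtain ⟨a', b', c', d', hd, hm⟩ := dt_of_norm (S := A.img (M ⊓ A.pre (fixS (r x)))) (F := fun y => r x y = y)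
    (η := r a) (a := p) (d := d) (fun a b c hd fa fb fc g hg => by
      obtain ⟨m, hm, rfl⟩ := (A.mem_img hle).1 hg
      obtain ⟨y, hy, y1, -, y2⟩ := A.lift_tc hx (StdInt.two_of_sq h1) hd fa fb fc
      have y3 := A.conj (le_normalizer hy) hm.2.1
      refine (A.mem_img hle).2 ⟨y * m * y⁻¹, ⟨conj_mem_of_mem_normalizer (hn ⟨hy, mem_Cx.2 y1.symm⟩) hm.1,
        mul_mem (mul_mem (le_normalizer hy) hm.2.1) (inv_mem (le_normalizer hy)), ?_⟩, by rw [y3, y2]⟩
      rw [y3]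
      exact conj_mem_fixS (A.commute (le_normalizer hy) hx y1.symm) hm.2.2)
    ((A.mem_img hle).2 ⟨a, ⟨ha, (hM ha).1, h5⟩, rfl⟩) (by clear * - hp e1 e2 d2; grind) (h6 _ hp) (h6 _ e2)
    (h6 _ (inj.ne e2)) d1
  obtain ⟨m, hm, e⟩ := (A.mem_img hle).1 hm
  have f : ∀ y, r m y ≠ y → r x y = y := fun y hy => by_contra fun e => hy (hm.2.2 y e)
  simp only [e, Perm.mul_apply] at f
  obtain ⟨y, hy, y1, -, y2⟩ := A.lift_tc hx (StdInt.two_of_sq h1) (p := a') (q := b') (s := c')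
    (by clear * - hd; grind) (f _ (by simp only [swap_apply_def]; clear * - hd; grind))
    (f _ (by simp only [swap_apply_def]; clear * - hd; grind))
    (f _ (by simp only [swap_apply_def]; clear * - hd; grind))
  refine hz (A.comm_mem (hM.trans inf_le_left) hm.1 hy (hn ⟨hy, mem_Cx.2 y1.symm⟩)
    ⟨a', c', b', d', by clear * - hd; grind, ?_⟩)
  rw [commutatorElement_def, e, y2]
  simp only [tc, mul_inv_rev, swap_inv]
  clear * - hd
  ext z; simp only [Perm.mul_apply, swap_apply_def]; grind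

/-- four fixed points or three blocks -/
theorem cases (hx : x ∈ N J) (h1 : x * x = 1) :
    (∃ a b c d, [a, b, c, d].Nodup ∧ r x a = a ∧ r x b = b ∧ r x c = c ∧ r x d = d) ∨
      ∃ a b c, [a, b, c, r x a, r x b, r x c].Nodup := by
  have hπ := A.invol hx h1
  have := A.ge
  by_cases h4 : (r x).support.card ≤ 4
  · obtain ⟨a, a1, -⟩ := exists_fixed (r x) [] (by simp; omega)
    obtain ⟨b, b1, b2⟩ := exists_fixed (r x) [a] (by simp; omega)
    obtain ⟨c, c1, c2⟩ := exists_fixed (r x) [a, b] (by simp; omega)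
    obtain ⟨d, d1, d2⟩ := exists_fixed (r x) [a, b, c] (by simp; omega)
    exact Or.inl ⟨a, b, c, d, by clear * - b2 c2 d2; grind, a1, b1, c1, d1⟩
  · obtain ⟨a, a1, -⟩ := exists_blk (r x) [] (by rw [List.length_nil]; omega)
    obtain ⟨b, b1, b2⟩ := exists_blk (r x) [a] (by simp; omega)
    obtain ⟨c, c1, c2⟩ := exists_blk (r x) [a, b] (by simp; omega)
    simp only [List.mem_cons, List.not_mem_nil, or_false, forall_eq_or_imp, forall_eq] at b2 c2
    exact Or.inr ⟨a, b, c, nd3 hπ a1 b1 c1 b2 c2.1 c2.2⟩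

/-- a subgroup containing the odd elements of the centraliser contains `z` -/
theorem all (hx : x ∈ N J) (h1 : x * x = 1) (h : ∀ y ∈ J, Commute x y → Odd (orderOf y) → y ∈ M) : z ∈ M := by
  have hπ := A.invol hx h1
  rcases A.cases hx h1 with ⟨a, b, c, d, hn, a1, b1, c1, d1⟩ | ⟨a, b, c, hn⟩
  · obtain ⟨y, hy, y1, y2, y3⟩ := A.lift_tc hx (StdInt.two_of_sq h1) (p := a) (q := b) (s := c)
      (by clear * - hn; grind) a1 b1 c1
    obtain ⟨y', hy', y4, y5, y6⟩ := A.lift_tc hx (StdInt.two_of_sq h1) (p := b) (q := c) (s := d)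
      (by clear * - hn; grind) b1 c1 d1
    refine A.dt_mem (mul_mem hy hy') (mul_mem (h y hy y1 y2) (h y' hy' y4 y5)) ⟨a, b, c, d, hn, ?_⟩
    rw [A.mul (le_normalizer hy) (le_normalizer hy'), y3, y6, tc, tc, mul_assoc, ← mul_assoc (swap b c),
      swap_mul_self, one_mul]
  · obtain ⟨y, hy, y1, y2, y3⟩ := A.lift_tri hx h1 (p := a) (q := r x b) (s := c) (by clear * - hn hπ; grind)
    obtain ⟨y', hy', y4, y5, y6⟩ := A.lift_tri hx h1 (p := a) (q := c) (s := b) (by clear * - hn; grind)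
    refine A.dt_mem (mul_mem hy hy') (mul_mem (h y hy y1 y2) (h y' hy' y4 y5))
      ⟨b, r x b, c, r x c, by clear * - hn; grind, ?_⟩
    rw [A.mul (le_normalizer hy) (le_normalizer hy'), y3, y6, hπ]
    generalize r x a = a', r x b = b', r x c = c' at hn
    clear * - hn
    ext z; simp only [tc, Perm.mul_apply, swap_apply_def]; grind

theorem qc_aux {o i j : G} (ho : o ∈ J ⊓ Cx x) (hi : i ∈ J ⊓ Cx x) (hj : j ∈ J ⊓ Cx x) (d1 : IsDT (r i))
    (d2 : IsDT (r j)) (d3 : IsDT (r i * r j)) (e1 : r o * r i * (r o)⁻¹ = r j)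
    (e2 : r o * r j * (r o)⁻¹ = r i * r j) : ∃ T : Subgroup G, IsPGroup 2 T ∧ T ≤ J ⊓ Cx x ∧
    ∃ o ∈ J ⊓ Cx x, ∃ i ∈ T, ∃ j ∈ T, i * i = z ∧ j * j = z ∧ i * j * (i * j) = z ∧ IsDT (r i) ∧ IsDT (r j) ∧ IsDT (r i * r j) ∧
      ⁅r o, r i⁆ = r i * r j ∧ ⁅r o, r j⁆ = r i := by
  have c : r i * r j = r j * r i := by
    rw [← inv_eq_of_mul_eq_one_right d3.sq, mul_inv_rev, inv_eq_of_mul_eq_one_right d1.sq,
      inv_eq_of_mul_eq_one_right d2.sq]
  obtain ⟨T, hT⟩ := exists_isSylowIn 2 (J ⊓ Cx x ⊓ A.pre (Cx (r i) ⊓ Cx (r j)))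
  have key : ∀ k ∈ J ⊓ Cx x, IsDT (r k) → r k ∈ Cx (r i) ⊓ Cx (r j) → r k = r i ∨ r k = r j →
      ∃ k' ∈ T, k' * k' = z ∧ r k' = r k := fun k hk d4 h5 h6 => by
    obtain ⟨m, m1, m2⟩ := A.dt_pow hk.1 d4
    have m3 := pow_mem hk m
    obtain ⟨g, hg, g1⟩ := hT.exists_conj_mem (x := k ^ m) ⟨m3, le_normalizer m3.1, m1 ▸ h5⟩
      (two_iff.1 ⟨2, by rw [show 2 ^ 2 = 2 * 2 from rfl, pow_mul, pow_two (k ^ m), m2, pow_two, sq_of_ord A.ord]⟩)
    refine ⟨_, g1, by rw [conj_mul, m2, mem_Cx'.1 (A.cen hg.1.1)], ?_⟩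
    rw [A.conj hg.2.1 (le_normalizer m3.1), m1]
    rcases h6 with e | e <;> rw [e]
    exacts [mem_Cx'.1 hg.2.2.1, mem_Cx'.1 hg.2.2.2]
  obtain ⟨i', i1, i2, i3⟩ := key i hi d1 ⟨mem_Cx.2 rfl, mem_Cx.2 c⟩ (Or.inl rfl)
  obtain ⟨j', j1, j2, j3⟩ := key j hj d2 ⟨mem_Cx.2 c.symm, mem_Cx.2 rfl⟩ (Or.inr rfl)
  have k1 := mul_mem i1 j1
  have k2 := (hT.le k1).1.1
  have k3 : r (i' * j') = r i * r j := by rw [A.mul (hT.le i1).2.1 (hT.le j1).2.1, i3, j3]
  refine ⟨T, hT.pgroup, hT.le.trans inf_le_left, o, ho, i', i1, j', j1, i2, j2,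
    (A.eqz (mul_mem k2 k2) (by rw [A.mul (le_normalizer k2) (le_normalizer k2), k3, d3.sq])
      (two_of_mem hT.pgroup (mul_mem k1 k1))).resolve_left fun e => ?_, i3 ▸ d1, j3 ▸ d2, i3 ▸ j3 ▸ d3, ?_, ?_⟩
  · have := A.dt k2 (k3 ▸ d3)
    rw [e, one_mul] at this
    exact not_mem_O A.ord this
  · rw [i3, j3, commutatorElement_def, e1, inv_eq_of_mul_eq_one_right d1.sq, c]
  · rw [i3, j3, commutatorElement_def, e2, mul_inv_cancel_right]

/-- a quaternion group in the centraliser of an involution -/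
theorem qc (hx : x ∈ N J) (h1 : x * x = 1) : ∃ T : Subgroup G, IsPGroup 2 T ∧ T ≤ J ⊓ Cx x ∧
    ∃ o ∈ J ⊓ Cx x, ∃ i ∈ T, ∃ j ∈ T, i * i = z ∧ j * j = z ∧ i * j * (i * j) = z ∧ IsDT (r i) ∧ IsDT (r j) ∧ IsDT (r i * r j) ∧
      ⁅r o, r i⁆ = r i * r j ∧ ⁅r o, r j⁆ = r i := by
  have hπ := A.invol hx h1
  have h2 := StdInt.two_of_sq h1
  rcases A.cases hx h1 with ⟨a, b, c, d, hn, a1, b1, c1, d1⟩ | ⟨a, b, c, hn⟩
  · obtain ⟨o, ho, o1, -, o2⟩ := A.lift_tc hx h2 (p := a) (q := b) (s := c) (by clear * - hn; grind) a1 b1 c1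
    have k : ∀ a b c d, [a, b, c, d].Nodup → r x a = a → r x b = b → r x c = c → r x d = d →
        ∃ y ∈ J, Commute x y ∧ r y = swap a b * swap c d := fun a b c d hn a1 b1 c1 d1 =>
      A.lift_disj1 hx h2 (sign_dt (by clear * - hn; grind) (by clear * - hn; grind)) fun y => by
        simp only [Perm.mul_apply, swap_apply_def]; clear * - a1 b1 c1 d1; grind
    obtain ⟨i, hi, i1, i2⟩ := k a b c d hn a1 b1 c1 d1
    obtain ⟨j, hj, j1, j2⟩ := k b c a d (by clear * - hn; grind) b1 c1 a1 d1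
    have e : r i * r j = swap c a * swap b d := by
      rw [i2, j2]; clear * - hn; ext z; simp only [Perm.mul_apply, swap_apply_def]; grind
    refine A.qc_aux ⟨ho, mem_Cx.2 o1.symm⟩ ⟨hi, mem_Cx.2 i1.symm⟩ ⟨hj, mem_Cx.2 j1.symm⟩ ⟨_, _, _, _, hn, i2⟩
      ⟨_, _, _, _, by clear * - hn; grind, j2⟩ ⟨_, _, _, _, by clear * - hn; grind, e⟩ ?_ ?_
    · rw [i2, j2, o2, ← conj_mul, conj_swap, conj_swap]
      simp only [tc, Perm.mul_apply, swap_apply_def]; clear * - hn; grind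
    · rw [e, j2, o2, ← conj_mul, conj_swap, conj_swap]
      simp only [tc, Perm.mul_apply, swap_apply_def]; clear * - hn; grind
  · obtain ⟨o, ho, o1, -, o2⟩ := A.lift_tri hx h1 hn
    obtain ⟨i, hi, i1, i2⟩ := A.lift_blk hx h1 (p := c) (q := a) (s := b) (by clear * - hn; grind)
    obtain ⟨j, hj, j1, j2⟩ := A.lift_blk hx h1 hn
    generalize r x a = a', r x b = b', r x c = c' at hn o2 i2 j2
    have e : r i * r j = swap c c' * swap a a' := by
      rw [i2, j2]; clear * - hn; ext z; simp only [Perm.mul_apply, swap_apply_def]; grind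
    refine A.qc_aux ⟨ho, mem_Cx.2 o1.symm⟩ ⟨hi, mem_Cx.2 i1.symm⟩ ⟨hj, mem_Cx.2 j1.symm⟩
      ⟨_, _, _, _, by clear * - hn; grind, i2⟩
      ⟨_, _, _, _, by clear * - hn; grind, j2⟩ ⟨_, _, _, _, by clear * - hn; grind, e⟩ ?_ ?_
    · rw [i2, j2, o2, ← conj_mul, conj_swap, conj_swap]
      simp only [tc, Perm.mul_apply, swap_apply_def]; clear * - hn; grind
    · rw [e, j2, o2, ← conj_mul, conj_swap, conj_swap]
      simp only [tc, Perm.mul_apply, swap_apply_def]; clear * - hn; grind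

theorem ql (ha : a ∈ N J) (hc : c ∈ N J) (hv : v * v = 1) (h1 : a * a = v) (h2 : c * c = v)
    (h3 : a * c * (a * c) = v)
    (h : ∀ y ∈ J, Commute v y → StdInt.AltS.Bl (r v) (r y) → Odd (orderOf ⁅a, y⁆)) : v ∈ cm J := by
  have hN : v ∈ N J := h1 ▸ mul_mem ha ha
  refine (A.ker hN).1 (Equiv.ext fun p => by_contra fun hp => ?_)
  have hπ := A.invol hN hv
  have π2 : r v * r v = 1 := Equiv.ext hπ
  have g2 : r a * r a = r v := by rw [← A.mul ha ha, h1]
  obtain ⟨a1, a2, a3⟩ := root_apply π2 g2 hp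
  have cm1 := comm_apply (A.commute ha hN (by rw [← h1]; exact (Commute.refl a).mul_right (.refl a)))
  by_cases hs : ∃ s, r v s ≠ s ∧ (s ≠ r a p ∧ s ≠ r v (r a p)) ∧ s ≠ p ∧ s ≠ r v p
  · obtain ⟨s, s1, s2, s3⟩ := hs
    have hd := nd3 hπ a3 hp s1 ⟨a1.symm, fun e => a2 ((hπ _).symm.trans (congrArg _ e.symm))⟩ s2 s3
    obtain ⟨y, hy, y1, y2⟩ := A.lift_blk hN hv hd
    have bl : Bl (r v) (r y) := fun q => by
      simp only [y2, Perm.mul_apply, swap_apply_def]; clear * - hπ hd; grind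
    have hyN := le_normalizer hy
    have b1 : Odd (orderOf ⁅r a, r y⁆) := by
      rw [← A.comm ha hyN]
      exact (h y hy y1 bl).of_dvd_nat (A.orderOf_dvd
        (mul_mem (mul_mem (mul_mem ha hyN) (inv_mem ha)) (inv_mem hyN)))
    have b2 : ⁅r a, r y⁆ ∈ blS (r v) hπ :=
      mul_mem (bl.conj (Equiv.ext cm1)) (inv_mem (show r y ∈ blS (r v) hπ from bl))
    have b3 := comm_apply (commutatorElement_eq_one_iff_commute.1 (StdInt.eq_one_of_odd_sq b1 (Bl.sq hπ b2))) p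
    simp only [y2, Perm.mul_apply, swap_apply_def] at b3
    have b4 := cm1 p
    clear * - b3 b4 hd
    grind
  · obtain ⟨c1, c2, c3⟩ := root_apply π2 (show r c * r c = r v by rw [← A.mul hc hc, h2]) hp
    obtain ⟨d1, d2, -⟩ := root_apply π2 (show r a * r c * (r a * r c) = r v by
      rw [← A.mul ha hc, ← A.mul (mul_mem ha hc) (mul_mem ha hc), h3]) hp
    have g3 : ∀ y, r a (r a y) = r v y := fun y => DFunLike.congr_fun g2 y
    rw [Perm.mul_apply] at d1 d2
    refine hs ⟨r c p, c3, ⟨fun e => d2 (by rw [e, g3]), fun e => d1 (by rw [e, cm1, g3, hπ])⟩, c1, c2⟩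

theorem ql' (hK : PC 2 K X) (hv : v * v = 1) (hX : X ≤ N J ⊓ Cx v) (hJ : J ⊓ Cx v ≤ X) (ha : a ∈ K) (hc : c ∈ K)
    (h1 : a * a = v) (h2 : c * c = v) (h3 : a * c * (a * c) = v) : v ∈ cm J := by
  have haN := (hX (hK.le ha)).1
  have hN : v ∈ N J := h1 ▸ mul_mem haN haN
  have hπ := A.invol hN hv
  have hR : SubnIn (J ⊓ Cx v ⊓ A.pre (blS (r v) hπ)) X :=
    subnIn_of_le_normalizer (inf_le_left.trans hJ) fun g hg => mem_normalizer_of_forall fun y hy => by
      have g1 := conj_mem_of_mem_normalizer (hX hg).1 hy.1.1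
      refine ⟨⟨g1, (Cx v).mul_mem ((Cx v).mul_mem (hX hg).2 hy.1.2) ((Cx v).inv_mem (hX hg).2)⟩, le_normalizer g1, ?_⟩
      rw [A.conj (hX hg).1 hy.2.1]
      exact Bl.conj hy.2.2 (A.commute (hX hg).1 hN (mem_Cx.1 (hX hg).2))
  rcases hK.le_or_commutator_le hR with e | e
  · refine (hK.pqs.not_le_solvable (solvable_zen J) (hK.pqs.perfect.ge.trans (commutator_le.2
      fun g hg k hk => ?_))).elim
    have g1 : g ∈ J := (e hg).1.1
    have k1 : k ∈ J := (e hk).1.1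
    have g2 := mul_mem (mul_mem (mul_mem g1 k1) (inv_mem g1)) (inv_mem k1)
    refine ⟨g2, (A.ker (le_normalizer g2)).1 ?_⟩
    have g3 := A.comm (le_normalizer g1) (le_normalizer k1)
    rw [commutatorElement_def] at g3
    rw [g3, commutatorElement_def, inv_eq_of_mul_eq_one_right (Bl.sq hπ (e hg).2.2),
      inv_eq_of_mul_eq_one_right (Bl.sq hπ (e hk).2.2), mul_assoc]
    exact Bl.sq hπ (Bl.mul hπ (e hg).2.2 (e hk).2.2)
  · exact A.ql haN (hX (hK.le hc)).1 hv h1 h2 h3 fun y hy y1 y2 =>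
      odd_of_mem_O (e (commutator_mem_commutator ha ⟨⟨hy, mem_Cx.2 y1.symm⟩, le_normalizer hy, y2⟩))

end Act

variable {α : Type*} [Fintype α] [DecidableEq α] {π g : Perm α}

open CfsgLib.StdInt.AltS

theorem root_perm (h1 : π * π = 1) (h2 : g * g = π) (h : 12 ≤ π.support.card) : ∃ p q s,
    [p, q, s, π p, π q, π s].Nodup ∧ (⁅tc p q s * tc (π p) (π q) (π s), g⁆ ^ 4) p ≠ p := by
  have hx : ∀ y, π (π y) = y := fun y => DFunLike.congr_fun h1 y
  have hU : ∀ y, g (g y) = π y := fun y => DFunLike.congr_fun h2 y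
  obtain ⟨a, a1, -⟩ := exists_orb π g [] (by rw [List.length_nil]; omega)
  obtain ⟨b, b1, b2⟩ := exists_orb π g [a] (by simp; omega)
  obtain ⟨c, c1, c2⟩ := exists_orb π g [a, b] (by simp; omega)
  simp only [List.mem_cons, List.not_mem_nil, or_false, forall_eq_or_imp, forall_eq] at b2 c2
  have inj := g.injective
  have hn : [a, b, c, π a, π b, π c, g a, g b, g c, g (π a), g (π b), g (π c)].Nodup := by
    have i1 : ∀ y, g (g (g (g y))) = y := fun y => by rw [hU, hU, hx]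
    simp only [← hU] at a1 b1 b2 c1 c2 ⊢
    simp only [List.nodup_cons, List.mem_cons, List.not_mem_nil, or_false, not_or, not_false_eq_true,
      List.nodup_nil]
    have := i1 a
    have := i1 b
    have := i1 c
    clear * - inj a1 b1 b2 c1 c2 i1
    and_intros <;> grind
  refine ⟨a, b, c, by clear * - hn; grind, ?_⟩
  have e : ⁅tc a b c * tc (π a) (π b) (π c), g⁆ = tc a b c * tc (π a) (π b) (π c) *
      (tc (g a) (g b) (g c) * tc (g (π a)) (g (π b)) (g (π c)))⁻¹ := by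
    rw [← conj_tc g, ← conj_tc g, commutatorElement_def]; group
  generalize ⁅tc a b c * tc (π a) (π b) (π c), g⁆ = k at e
  generalize g (π a) = a3, g (π b) = b3, g (π c) = c3 at hn e
  generalize π a = a1, π b = b1, π c = c1, g a = a2, g b = b2, g c = c2 at hn e
  have k1 : k a = b ∧ k b = c ∧ k c = a := by
    simp only [e, tc, mul_inv_rev, swap_inv, Perm.mul_apply, swap_apply_def]
    clear * - hn
    simp only [List.nodup_cons, List.mem_cons, List.not_mem_nil, or_false, not_or, not_false_eq_true,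
      List.nodup_nil] at hn
    and_intros <;> grind
  simp only [pow_succ, pow_zero, one_mul, Perm.mul_apply, k1.1, k1.2.1, k1.2.2]
  clear * - hn; grind

theorem fb_perm (h1 : π * π = 1) (h : 8 ≤ π.support.card) (hc : Commute g π)
    (h2 : ∀ p q s, [p, q, s, π p, π q, π s].Nodup → ∀ e, π e ≠ e →
      g ((tc p q s * tc (π p) (π q) (π s)) e) = (tc p q s * tc (π p) (π q) (π s)) (g e)) :
    (∀ e, π e ≠ e → g e = e) ∨ ∀ e, π e ≠ e → g e = π e := by
  have hx : ∀ y, π (π y) = y := fun y => DFunLike.congr_fun h1 y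
  have c := comm_apply hc
  have k1 : ∀ e, π e ≠ e → g e = e ∨ g e = π e := fun e he => by_contra fun hn => by
    have p1 : π (g e) ≠ g e := by rw [← c]; exact g.injective.ne he
    obtain ⟨q, q1, q2⟩ := exists_blk π [e, g e] (by simp; omega)
    obtain ⟨s, s1, s2⟩ := exists_blk π [e, g e, q] (by simp; omega)
    simp only [List.mem_cons, List.not_mem_nil, or_false, forall_eq_or_imp, forall_eq] at q2 s2
    have hd := nd4 hx he p1 q1 s1 (not_or.1 hn) q2.1 q2.2 s2.1 s2.2.1 s2.2.2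
    have := h2 (g e) q s (by clear * - hd; grind) e he
    simp only [tc, Perm.mul_apply, swap_apply_def] at this
    clear * - this hd
    grind
  by_cases h3 : ∃ e, π e ≠ e ∧ g e = e
  · obtain ⟨e, he, e1⟩ := h3
    refine Or.inl fun e' he' => ?_
    by_cases e2 : e' = e
    · rw [e2, e1]
    by_cases e3 : e' = π e
    · rw [e3, c, e1]
    obtain ⟨s, s1, s2⟩ := exists_blk π [e, e'] (by simp; omega)
    simp only [List.mem_cons, List.not_mem_nil, or_false, forall_eq_or_imp, forall_eq] at s2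
    have hd := nd3 hx he he' s1 ⟨e2, e3⟩ s2.1 s2.2
    have := h2 e e' s hd e he
    rw [e1] at this
    have e4 : (tc e e' s * tc (π e) (π e') (π s)) e = e' := by
      simp only [tc, Perm.mul_apply, swap_apply_def]; clear * - hd; grind
    rwa [e4] at this
  · exact Or.inr fun e he => (k1 e he).resolve_left fun f => h3 ⟨e, he, f⟩

end CfsgLib.Sol
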