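import Mathlib
import Cfsg.Agent.Lib.Sol.Act1
import Cfsg.Agent.Lib.LyS.Loc

/-! Involutions and elementary abelian subgroups. -/

set_option autoImplicit false
set_option linter.unusedSectionVars false
set_option linter.style.haveILetI false

namespace CfsgLib.Sol

open Cfsg Subgroup CfsgLib.PComp CfsgLib.Tech CfsgLib.W2 Equiv Equiv.Perm
open CfsgLib.LBal hiding cj
open CfsgLib.StdInt (Two)
open CfsgLib.AltAut (tc)
open scoped commutatorElement

universe u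

variable {G : Type u} [Group G] [Finite G] {n : ℕ} {X Y J K L M P Q W : Subgroup G} {a b c t u v w x y z : G}
variable {r : G → Perm (Fin n)}

namespace A2

theorem odd_two (a : G) : ∃ k, Odd k ∧ Two (a ^ k) := by
  obtain ⟨e, k, hk, h⟩ := Nat.exists_eq_two_pow_mul_odd (orderOf_pos a).ne'
  exact ⟨k, hk, e, by rw [← pow_mul, mul_comm, ← h, pow_orderOf_eq_one]⟩

theorem mem_zp (h : x * x = 1) (ha : a ∈ zpowers x) : a = 1 ∨ a = x := by
  obtain ⟨k, rfl⟩ := mem_powers_iff_mem_zpowers.2 ha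
  rcases Nat.even_or_odd k with ⟨m, rfl⟩ | hk
  · exact Or.inl (by simp only [← two_mul, pow_mul, pow_two, h, one_pow])
  · exact Or.inr (StdInt.odd_pow_sq h hk)

theorem Oct.ne {α : Type*} [DecidableEq α] [Fintype α] {π : Perm α} (h : Oct π) : π ≠ 1 := fun e => by
  have := h.2
  simp [e] at this

/-- the elementary abelian group of order eight -/
abbrev V8 := Multiplicative (ZMod 2 × ZMod 2 × ZMod 2)

theorem exists_reg (h : 8 ≤ n) : ∃ ψ : V8 →* Perm (Fin n), ∀ w, w ≠ 1 → Oct (ψ w) := by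
  classical
  obtain ⟨ι⟩ := Function.Embedding.nonempty_of_card_le (α := V8) (β := Fin n) (by simpa using h)
  refine ⟨(extendDomainHom ι.toEquivRange).comp (MulAction.toPermHom V8 V8), fun w hw => ⟨?_, ?_⟩⟩
  · rw [← map_mul, show w * w = 1 by revert w; decide, map_one]
  · have : (MulAction.toPermHom V8 V8 w).support = Finset.univ :=
      Finset.eq_univ_of_forall fun p => mem_support.2 (by simpa using hw)
    rw [MonoidHom.comp_apply, extendDomainHom_apply, card_support_extend_domain, this]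
    simp

theorem three {α : Type*} [DecidableEq α] [Fintype α] {c y : Perm α} (h : Fintype.card α ≤ 11)
    (h8 : c.support.card = 8) (hs : sign y = 1) (h1 : y ≠ 1) (hy : ∀ p, c p ≠ p → y p = p) :
    y.IsThreeCycle ∧ Fintype.card α = 11 ∧ ∀ p, c p = p ↔ y p ≠ p := by
  have h2 : y.support ⊆ c.supportᶜ := fun p hp =>
    Finset.mem_compl.2 fun e => mem_support.1 hp (hy p (mem_support.1 e))
  have h3 := Finset.card_le_card h2
  rw [Finset.card_compl, h8] at h3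
  have e := (LyS.small hs (by omega)).resolve_left h1
  have h4 := e.card_support
  exact ⟨e, by omega, fun p => ⟨fun hp => mem_support.1 ((Finset.eq_of_subset_of_card_le h2 (by
    rw [Finset.card_compl, h8]; omega)).ge (by simpa)), fun f => by_contra fun g => f (hy p g)⟩⟩

end A2

open A2

namespace Act

open CfsgLib.StdInt.AltS

variable (A : Act n J z r)
include A

/-- the action as a homomorphism on `J` -/
def homJ : J →* Perm (Fin n) :=
  MonoidHom.mk' (fun a => r a) fun a b => A.mul (le_normalizer a.2) (le_normalizer b.2)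

theorem lift_oct0 {π : Perm (Fin n)} (ho : Oct π) : ∃ y ∈ J, orderOf y = 2 ∧ y ≠ z ∧ r y = π := by
  obtain ⟨y, hy, y1, -, y2⟩ := A.lift_oct (P := ⊥) bot_le (fun x hx => by rw [mem_bot.1 hx, one_mul]) ho
    fun x hx => Or.inr (by rwa [mem_bot.1 hx, A.one, one_mul])
  exact ⟨y, hy, y1, fun e => Oct.ne ho (by rw [← y2, e, A.rz]), y2⟩

theorem lift_oct1 (hu : u ∈ J) (h1 : u * u = 1) {π : Perm (Fin n)} (ho : Oct π) (h : Oct (r u * π)) :
    ∃ y ∈ J, orderOf y = 2 ∧ y ≠ z ∧ Commute u y ∧ r y = π := by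
  obtain ⟨y, hy, y1, y3, y2⟩ := A.lift_oct (zpowers_le.2 hu)
    (fun x hx => by rcases mem_zp h1 hx with rfl | rfl <;> simp [h1]) ho
    fun x hx => Or.inr (by
      rcases mem_zp h1 hx with rfl | rfl
      exacts [by rwa [A.one, one_mul], h])
  exact ⟨y, hy, y1, fun e => Oct.ne ho (by rw [← y2, e, A.rz]), y3 u (mem_zpowers u), y2⟩

theorem exists_inv : ∃ u ∈ J, orderOf u = 2 ∧ u ≠ z := by
  obtain ⟨ψ, hψ⟩ := exists_reg A.ge
  obtain ⟨w, hw⟩ := exists_ne (1 : V8)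
  obtain ⟨y, hy, y1, y2, -⟩ := A.lift_oct0 (hψ w hw)
  exact ⟨y, hy, y1, y2⟩

theorem oct (hn : n ≤ 15) (hu : u ∈ J) (h1 : orderOf u = 2) (h2 : u ≠ z) : Oct (r u) := by
  obtain ⟨m, hm⟩ := A.eight hu h1 h2
  have := (r u).support.card_le_univ
  rw [Fintype.card_fin] at this
  exact ⟨Equiv.ext (A.invol (le_normalizer hu) (sq_of_ord h1)), by omega⟩

theorem e16_aux : ∃ E : Subgroup G, E ≤ J ∧ (∀ e ∈ E, e * e = 1) ∧ 16 ≤ Nat.card E ∧ z ∈ E := by
  obtain ⟨ψ, hψ⟩ := exists_reg A.ge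
  have zz := sq_of_ord A.ord
  obtain ⟨T, hT, hz⟩ := exists_isSylowIn_ge (p := 2) (Q := zpowers z) (H := J ⊓ A.pre ψ.range)
    (two_iff.1 (two_of_ord A.ord)) (zpowers_le.2 ⟨A.mem, le_normalizer A.mem, A.rz ▸ one_mem _⟩)
  replace hz := hz (mem_zpowers z)
  have hJ : T ≤ J := hT.le.trans inf_le_left
  have key : ∀ w, ∃ y ∈ T, y * y = 1 ∧ r y = ψ w := fun w => by
    by_cases hw : w = 1
    · exact ⟨1, one_mem _, one_mul 1, by rw [hw, A.one, map_one]⟩
    obtain ⟨y, hy, y1, -, y2⟩ := A.lift_oct0 (hψ w hw)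
    obtain ⟨g, hg, g1⟩ := hT.exists_conj_mem (x := y) ⟨hy, le_normalizer hy, w, y2.symm⟩
      (two_iff.1 (two_of_ord y1))
    obtain ⟨w', e⟩ := hg.2.2
    exact ⟨_, g1, by rw [conj_mul, sq_of_ord y1, mul_one, mul_inv_cancel], by
      rw [A.conj hg.2.1 (le_normalizer hy), y2, ← e, ← map_mul, mul_comm, map_mul, mul_inv_cancel_right]⟩
  choose s s1 s2 s3 using key
  refine ⟨T, hJ, fun e he => ?_, ?_, hz⟩
  · obtain ⟨w, hw⟩ := (hT.le he).2.2
    have k := mul_mem (s1 w) he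
    have c := mem_Cx.1 (A.cen (hJ (s1 w)))
    rcases A.eqz (hJ k) (by rw [A.mul (le_normalizer (hJ (s1 w))) (le_normalizer (hJ he)), s3, ← hw, ← map_mul,
      show w * w = 1 by clear * -; revert w; decide, map_one]) (two_of_mem hT.pgroup k) with f | f
    · rw [eq_inv_of_mul_eq_one_right f, ← mul_inv_rev, s2, inv_one]
    · rw [eq_inv_mul_of_mul_eq f, inv_eq_of_mul_eq_one_right (s2 w), mul_assoc, ← mul_assoc z, ← c, mul_assoc, zz,
        mul_one, s2]
  · have inj : Function.Injective ψ := (injective_iff_map_eq_one ψ).2 fun w hw =>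
      by_contra fun e => Oct.ne (hψ w e) hw
    have k : ∀ w (b : Bool), r (s w * cond b z 1) = ψ w := fun w b => by
      cases b
      · simp [s3]
      · simp [A.mul (le_normalizer (hJ (s1 w))) (le_normalizer A.mem), A.rz, s3]
    have := Nat.card_le_card_of_injective (fun p : V8 × Bool =>
      (⟨s p.1 * cond p.2 z 1, mul_mem (s1 _) (by cases p.2 <;> simp [hz])⟩ : T)) (by
        rintro ⟨w, b⟩ ⟨w', b'⟩ e
        have e1 : s w * cond b z 1 = s w' * cond b' z 1 := congrArg Subtype.val e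
        obtain rfl : w = w' := inj (by rw [← k w b, e1, k])
        have := ne_one_of_ord A.ord
        have := this.symm
        cases b <;> cases b' <;> simp_all)
    simpa using this

theorem e16 (hn : n ≤ 15) (hu : u ∈ J) (h1 : orderOf u = 2) :
    ∃ E : Subgroup G, E ≤ J ∧ (∀ e ∈ E, e * e = 1) ∧ 16 ≤ Nat.card E ∧ z ∈ E ∧ u ∈ E := by
  obtain ⟨E, e1, e2, e3, e4⟩ := A.e16_aux
  by_cases h2 : u = z
  · exact ⟨E, e1, e2, e3, e4, h2 ▸ e4⟩
  obtain ⟨v, hv, v1, v2⟩ := Classif.exists_mem_ne_ne (V := E) (by omega) z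
  obtain ⟨l, hl, rfl⟩ := A.isConj hn (e1 hv) (ord_two (e2 v hv) v1) v2 hu h1 h2
  refine ⟨cj l E, cj_le_iff.2 fun x hx => mul_mem (mul_mem hl (e1 hx)) (inv_mem hl), ?_, by rwa [card_cj], ?_,
    conj_mem_cj.2 hv⟩
  · rintro _ ⟨e, he, rfl⟩
    rw [← map_mul, e2 e he, map_one]
  · rw [← mem_Cx'.1 (A.cen hl)]
    exact conj_mem_cj.2 e4

/-- the elements of an elementary abelian group of order sixteen move the same points -/
theorem supp_eq (hn : n ≤ 11) {E : Subgroup G} (hE : E ≤ J) (h2 : ∀ e ∈ E, e * e = 1) (h16 : 16 ≤ Nat.card E)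
    (ha : a ∈ E) (h1 : r a ≠ 1) (hb : b ∈ E) {p : Fin n} (hp : r b p ≠ p) : r a p ≠ p := by
  have h8 : LyS.E8 ((E.subgroupOf J).map A.homJ) := by
    refine ⟨by simpa using hn, ?_, ?_, ?_⟩
    · rintro _ ⟨a, ha, rfl⟩
      rw [← map_mul, show a * a = 1 from Subtype.ext (h2 a ha), map_one]
    · have h3 := card_mul_relIndex' (inf_le_right : A.homJ.ker ⊓ E.subgroupOf J ≤ E.subgroupOf J)
      rw [inf_relIndex_right, relIndex_ker, Nat.card_congr (subgroupOfEquivOfLe hE).toEquiv] at h3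
      have h4 : Nat.card (A.homJ.ker ⊓ E.subgroupOf J : Subgroup J) ≤ 2 := not_lt.1 fun e => by
        obtain ⟨v, hv, a1, a2⟩ := Classif.exists_mem_ne_ne e ⟨z, A.mem⟩
        exact (A.eqz v.2 hv.1 (StdInt.two_of_sq (h2 v hv.2))).elim (fun f => a1 (Subtype.ext f))
          fun f => a2 (Subtype.ext f)
      nlinarith
    · rintro _ ⟨a, ha, rfl⟩ e
      exact (A.oct (by omega) a.2 (ord_two (h2 a ha) fun f => e (show r a = 1 by rw [f, A.one]))
        fun f => e (show r a = 1 by rw [f, A.rz])).2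
  have := h8.supp_eq (a := r a) (b := r b) ⟨⟨a, hE ha⟩, ha, rfl⟩ h1 ⟨⟨b, hE hb⟩, hb, rfl⟩ fun e => hp (by simp [e])
  exact mem_support.1 (this ▸ mem_support.2 hp)

theorem not_syl (hu : u ∈ J) (h1 : orderOf u = 2) (h2 : u ≠ z) {T : Subgroup G} (hT : IsSylowIn 2 T J) :
    ¬ T ≤ Cx u := fun hc => by
  obtain ⟨l, hl, e⟩ := A.neg hu h1 h2
  have zz := sq_of_ord A.ord
  have hN : l⁻¹ ∈ N (J ⊓ Cx u) := mem_normalizer_of_forall fun g hg => by
    have g1 : l⁻¹ * g * l⁻¹⁻¹ ∈ J := mul_mem (mul_mem (inv_mem hl) hg.1) (inv_mem (inv_mem hl))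
    refine ⟨g1, (conj_mem_Cx (g := l)).1 ?_⟩
    rw [e, show l * (l⁻¹ * g * l⁻¹⁻¹) * l⁻¹ = g by group, mem_Cx, ← mul_assoc, mem_Cx.1 hg.2, mul_assoc,
      mem_Cx.1 (A.cen hg.1), mul_assoc]
  obtain ⟨c, hc', hm⟩ := (hT.of_le (le_inf hT.le hc) inf_le_left).frattini' (inv_mem_iff.1 hN)
  have m1 : l * c ∈ J := mul_mem hl hc'.1
  have m2 : l * c * u * (l * c)⁻¹ = u * z := by
    rw [← e, ← mem_Cx'.1 hc'.2]; conv_lhs => rw [mem_Cx'.1 hc'.2]
    group
  generalize l * c = m at hm m1 m2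
  obtain ⟨k, hk, k1⟩ := odd_two m
  have k2 := hc (hT.le_of_normalizes (two_iff.1 k1) (zpowers_le.2 (pow_mem m1 k)) (zpowers_le.2 (pow_mem hm k))
    (mem_zpowers _))
  have k3 : m ^ 2 ∈ Cx u := mem_Cx'.2 (by
    calc m ^ 2 * u * (m ^ 2)⁻¹ = m * (m * u * m⁻¹) * m⁻¹ := by rw [pow_two]; group
      _ = m * (u * z) * m⁻¹ := by rw [m2]
      _ = (m * u * m⁻¹) * (m * z * m⁻¹) := by group
      _ = u := by rw [m2, mem_Cx'.1 (A.cen m1), mul_assoc, zz, mul_one])
  have k4 := mem_Cx'.1 (mem_of_coprime_pow hk.coprime_two_right k2 k3)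
  rw [m2, mul_eq_left] at k4
  exact ne_one_of_ord A.ord k4

theorem noncentral {S : Subgroup G} (hS : IsSylowIn 2 S ⊤) : ∃ v ∈ S, v * v = 1 ∧ ∃ s ∈ S, v * s ≠ s * v := by
  obtain ⟨u, hu, h1, h2⟩ := A.exists_inv
  obtain ⟨T, hT, h3⟩ := exists_isSylowIn_ge (two_iff.1 (two_of_ord h1)) (zpowers_le.2 hu)
  obtain ⟨s, hs, h4⟩ := SetLike.not_le_iff_exists.1 (A.not_syl hu h1 h2 hT)
  obtain ⟨g, -, hg⟩ := hS.exists_cj_le hT.pgroup le_top
  exact ⟨_, hg (conj_mem_cj.2 (h3 (mem_zpowers u))), sq_of_ord ((ord_conj g u).trans h1), _, hg (conj_mem_cj.2 hs),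
    fun e => h4 (conj_mem_Cx.1 (mem_Cx.2 e.symm))⟩

/-- an outer element yields an outer involution -/
theorem outer (h : ∀ b ∈ Cx z ⊓ cm J, Two b → b = 1 ∨ b = z) (ha : a ∈ N J ⊓ Cx z) (hs : sign (r a) = -1) :
    ∃ x ∈ N J ⊓ Cx z, orderOf x = 2 ∧ sign (r x) = -1 := by
  have := A.ge
  obtain ⟨p, -, -⟩ := exists_fixed (1 : Perm (Fin n)) [] (by simp; omega)
  obtain ⟨q, -, b2⟩ := exists_fixed (1 : Perm (Fin n)) [p] (by simp; omega)
  obtain ⟨c, -, c2⟩ := exists_fixed (1 : Perm (Fin n)) [p, q] (by simp; omega)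
  obtain ⟨d, -, d2⟩ := exists_fixed (1 : Perm (Fin n)) [p, q, c] (by simp; omega)
  obtain ⟨e, -, e2⟩ := exists_fixed (1 : Perm (Fin n)) [p, q, c, d] (by simp; omega)
  obtain ⟨f, -, f2⟩ := exists_fixed (1 : Perm (Fin n)) [p, q, c, d, e] (by simp; omega)
  have hd : [p, q, c, d, e, f].Nodup := by clear * - b2 c2 d2 e2 f2; grind
  simp only [List.nodup_cons, List.mem_cons, List.not_mem_nil, or_false, not_or, not_false_eq_true,
    List.nodup_nil] at hd
  have pq : sign (swap p q) = -1 := sign_swap (by clear * - hd; grind)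
  obtain ⟨k, hk, k1⟩ := A.surj (π := (r a)⁻¹ * swap p q) (by rw [map_mul, map_inv, hs, pq]; simp)
  have m1 : a * k ∈ N J ⊓ Cx z := mul_mem ha ⟨le_normalizer hk, A.cen hk⟩
  obtain ⟨m, hm, m2⟩ := odd_two (a * k)
  have m3 : r ((a * k) ^ m) = swap p q := by
    rw [A.pow m1.1, A.mul ha.1 (le_normalizer hk), k1, mul_inv_cancel_left, StdInt.odd_pow_sq (swap_mul_self p q) hm]
  have m4 := pow_mem m1 m
  generalize (a * k) ^ m = g at m2 m3 m4
  have ne : ∀ x, sign (r x) = -1 → x ≠ 1 := fun x hx e => by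
    rw [e, A.one, map_one] at hx
    exact absurd hx (by decide)
  rcases h (g * g) ⟨(mul_mem m4 m4).2, (A.ker (mul_mem m4 m4).1).1 (by rw [A.mul m4.1 m4.1, m3, swap_mul_self])⟩
    (two_of_mem (two_iff.1 m2) (mul_mem (mem_zpowers g) (mem_zpowers g))) with g1 | g1
  · exact ⟨g, m4, ord_two g1 (ne g (m3 ▸ pq)), m3 ▸ pq⟩
  obtain ⟨y, hy, y1, y2⟩ := A.lift_disj1 m4.1 m2 (sign_dt (a := c) (b := d) (c := e) (d := f)
    (by clear * - hd; grind) (by clear * - hd; grind)) fun t => by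
      simp only [m3, Perm.mul_apply, swap_apply_def]; clear * - hd; grind
  obtain ⟨i, -, i2⟩ := A.dt_pow hy ⟨_, _, _, _, by clear * - hd; grind, y2⟩
  have y3 := pow_mem hy i
  have s1 : sign (r (g * y ^ i)) = -1 := by rw [A.mul m4.1 (le_normalizer y3), map_mul, A.ev y3, m3, pq, mul_one]
  refine ⟨g * y ^ i, mul_mem m4 ⟨le_normalizer y3, A.cen y3⟩, ord_two ?_ (ne _ s1), s1⟩
  rw [(y1.pow_right i).symm.mul_mul_mul_comm, g1, i2, sq_of_ord A.ord]

theorem card_dvd : n.factorial ∣ Nat.card J := by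
  have h1 : A.homJ.range = alternatingGroup (Fin n) := le_antisymm
    (by rintro _ ⟨a, rfl⟩; exact mem_alternatingGroup.2 (A.ev a.2)) fun π hπ => by
      obtain ⟨a, ha, e⟩ := A.surj (mem_alternatingGroup.1 hπ)
      exact ⟨⟨a, ha⟩, e⟩
  have h2 := A.homJ.ker.orderOf_dvd_natCard (x := ⟨z, A.mem⟩) A.rz
  rw [orderOf_mk, A.ord] at h2
  haveI : Nontrivial (Fin n) := Fin.nontrivial_iff_two_le.2 (by linarith [A.ge])
  have h3 := two_mul_nat_card_alternatingGroup (α := Fin n)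
  rw [Nat.card_perm, Nat.card_fin] at h3
  rw [← A.homJ.ker.card_mul_index, index_ker, h1, ← h3]
  exact Nat.mul_dvd_mul_right h2 _

/-- the configuration in degree eleven -/
theorem eleven (hn : n ≤ 11) (hu : u ∈ J) (h1 : orderOf u = 2) (h2 : u ≠ z) {d : G} (hd : d ∈ N J)
    (ho : Odd (orderOf d)) (h3 : ∀ p, r u p ≠ p → r d p = p) (h4 : r d ≠ 1) :
    ∃ k ∈ J, ∃ l ∈ J, Commute (k * u * k⁻¹) (l * u * l⁻¹) ∧
      ¬ Odd (orderOf (k * d * k⁻¹ * (l * d * l⁻¹) * (k * d * k⁻¹) * (l * d * l⁻¹)⁻¹)) := by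
  have hs : sign (r d) = 1 := StdInt.eq_one_of_odd_sq
    ((ho.of_dvd_nat (A.orderOf_dvd hd)).of_dvd_nat (orderOf_map_dvd sign _)) (Int.units_mul_self _)
  have hn' : Fintype.card (Fin n) ≤ 11 := by simpa using hn
  obtain rfl : n = 11 := by simpa using (three hn' (A.oct (by omega) hu h1 h2).2 hs h4 h3).2.1
  obtain ⟨r1, r2, r3, r4, r5, r6⟩ := LyS.ρ_facts
  obtain ⟨x, hx, x1, x2, x3⟩ := A.lift_oct0 r1
  obtain ⟨y, hy, y1, y2, y4, y3⟩ := A.lift_oct1 hx (sq_of_ord x1) r2 (x3 ▸ r3)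
  have key : ∀ c ∈ J, orderOf c = 2 → c ≠ z → ∃ k ∈ J, k * u * k⁻¹ = c ∧ (r (k * d * k⁻¹)).IsThreeCycle ∧
      ∀ p, r c p = p ↔ r (k * d * k⁻¹) p ≠ p := fun c hc c1 c2 => by
    obtain ⟨k, hk, e⟩ := A.isConj (by omega) hu h1 h2 hc c1 c2
    have k1 := A.conj (le_normalizer hk) hd
    obtain ⟨b1, -, b2⟩ := three hn' (A.oct (by omega) hc c1 c2).2 (y := r (k * d * k⁻¹)) (by simp [k1, hs])
      (by simpa [k1] using h4) fun p hp => by
        rw [← e, A.conj (le_normalizer hk) (le_normalizer hu)] at hp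
        simp only [k1, Perm.mul_apply] at hp ⊢
        rw [h3 _ fun e => hp (by rw [e]; simp)]; simp
    exact ⟨k, hk, e, b1, b2⟩
  obtain ⟨k, hk, k1, k2, k3⟩ := key x hx x1 x2
  obtain ⟨l, hl, l1, l2, l3⟩ := key y hy y1 y2
  refine ⟨k, hk, l, hl, by rwa [k1, l1], fun ho => ?_⟩
  have hc : k * d * k⁻¹ ∈ N J := mul_mem (mul_mem (le_normalizer hk) hd) (inv_mem (le_normalizer hk))
  have he : l * d * l⁻¹ ∈ N J := mul_mem (mul_mem (le_normalizer hl) hd) (inv_mem (le_normalizer hl))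
  replace ho := ho.of_dvd_nat (A.orderOf_dvd (mul_mem (mul_mem (mul_mem hc he) hc) (inv_mem he)))
  rw [A.mul (mul_mem (mul_mem hc he) hc) (inv_mem he), A.mul (mul_mem hc he) hc, A.mul hc he, A.inv he] at ho
  simp only [x3, y3] at k3 l3
  generalize r (k * d * k⁻¹) = c at *
  generalize r (l * d * l⁻¹) = e at *
  have c1 := (k3 10).1 r4
  have c2 : c (c (c 10)) = 10 := by
    have := pow_orderOf_eq_one c
    rw [k2.orderOf, pow_three] at this
    exact congrArg (· 10) this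
  have c3 : ∀ p, c p ≠ p → p ≠ 10 → e p = p := fun p h4 h5 =>
    by_contra fun f => h5 (r6 p ((k3 p).2 h4) ((l3 p).2 f))
  have c4 := (l3 10).1 r5
  refine LyS.not_odd c1 c2 (c3 _ (c.injective.ne c1) c1)
    (c3 _ (c.injective.ne (c.injective.ne c1)) fun f => c1 (by rwa [f] at c2)) (by_contra fun f => ?_) ho
  have c5 : e⁻¹ 10 ≠ 10 := fun g => c4 (by rwa [Perm.inv_eq_iff_eq, eq_comm] at g)
  exact c5 ((c3 _ f c5).symm.trans (by simp))

end Act

end CfsgLib.Sol
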