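import Mathlib
import Cfsg.Agent.Lib.Sol.Defs

/-! Balance, pump-up and diagonal components in an arbitrary subgroup. -/

set_option autoImplicit false
set_option linter.unusedSectionVars false
set_option linter.style.haveILetI false
set_option linter.unusedVariables false

namespace CfsgLib.Sol

open Cfsg Subgroup CfsgLib.PComp CfsgLib.Tech CfsgLib.W2 Equiv Equiv.Perm
open CfsgLib.LBal hiding cj
open CfsgLib.StdInt (Two)
open CfsgLib.AltAut (tc)
open scoped commutatorElement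

universe u

variable {G : Type u} [Group G] [Finite G] {n : ℕ} {X Y J K L M P Q W : Subgroup G} {a b c t u v w x y z : G}


theorem PA.sub (hX : x ∈ X) (h : PC 2 J (X ⊓ Cx x)) : PC 2 (J.subgroupOf X) (Cx (⟨x, hX⟩ : X)) := by
  have := h.subgroupOf (h.le.trans inf_le_left)
  rwa [inf_subgroupOf_left, ← centralizer_singleton_subgroup ⟨x, hX⟩] at this

theorem PA.ord (hX : x ∈ X) (hx : orderOf x = 2) : orderOf (⟨x, hX⟩ : X) = 2 := by
  rw [← orderOf_coe]; exact hx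

theorem PA.map_Cx (hx : orderOf x = 2) : (Cx x).map (piO 2 G) = Cx (piO 2 G x) := by
  rw [Cx, ← Core.centralizer_zpowers, PLocal.Constr.map_centralizer_of_coprime_ker piO_surjective
    coprime_ker_piO (two_iff.1 (two_of_ord hx)), MonoidHom.map_zpowers, Core.centralizer_zpowers]

theorem PA.up (ht : orderOf t = 2) (hJ : t ∈ J) (h : PC 2 J (Cx t)) : ∃ L, IsPComponent 2 L ∧ J ≤ L := by
  have h1 := h.map_piO
  rw [PA.map_Cx ht] at h1
  have h2 : J.map (piO 2 G) ≤ layer _ := by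
    rw [← map_pLayer_piO]; exact map_mono (bal_two_singleton ht h)
  obtain ⟨L, hL, h3⟩ := exists_comp_not_le_centralizer h1.perfect h1.pqs.ne_bot h2
  obtain ⟨K, hK, rfl⟩ := exists_pc_map_eq hL
  have h4 := le_comp_of_normalizes (p := 2) (R := zpowers (piO 2 G t)) (by rwa [Core.centralizer_zpowers]) h2 hL h3
    (zpowers_le.2 ((mem_normalizer_pc_iff hK).1
      (pLayer_le_normalizer_pc hK (bal_two_singleton ht h hJ))))
  exact ⟨K, hK, le_of_le_sup_of_pec_eq h.pqs.pec_eq (isPComponent_iff.1 hK).1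
    (by rw [← ker_piO]; exact coprime_ker_piO) (map_piO_le_iff.1 h4)⟩

theorem PA.two_mul (ha : Two a) (hb : Two b) (h : Commute a b) : Two (a * b) := by
  obtain ⟨i, hi⟩ := ha
  obtain ⟨j, hj⟩ := hb
  refine ⟨i + j, ?_⟩
  rw [h.mul_pow, pow_add, pow_mul, hi, one_pow, mul_comm (2 ^ i), pow_mul, hj, one_pow, one_mul]

theorem PA.dg (hK : IsPComponent 2 K) (hb : orderOf b = 2) (hn : b ∉ N K) :
    ∃ J, PC 2 J (Cx b) ∧ ∀ k ∈ K, Two k → Commute k (b * k * b⁻¹) → k * (b * k * b⁻¹) ∈ J := by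
  have hL := (isPComponent_iff'.1 hK).2.1
  have hn' := mt (mem_normalizer_pc_iff hK).2 hn
  obtain ⟨ν, e1, e2, e3, e4⟩ := exists_nu (orderOf_piO hb) hL hn'
  have d : Diag 2 _ _ ν.range ν := ⟨hn', rfl, e1, e3, e4⟩
  have q := d.qs hL
  have hq : IsPQs 2 ν.range := isPQs_of_qs q (by
    rw [Nat.coprime_two_right, Nat.not_odd_iff_even]; exact even_card_of_qs q)
  have hC : ν.range ≤ Cx (piO 2 G b) := by rintro _ ⟨l, rfl⟩; exact e2 l
  have hS : SubnIn ν.range (Cx (piO 2 G b)) := by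
    refine SubnIn.step (B := layer _ ⊓ Cx (piO 2 G b)) (le_inf (d.le_orb.trans (orb_le_layer _ hL)) hC)
      (fun e he => ?_) (subnIn_inf_of_isSubnormal (Normal.isSubnormal Comp.layer_normal) _)
    obtain ⟨l, hl⟩ := exists_nu_inv_mul hL e3 he.1
    have h1 := centralizer_le (SetLike.coe_subset_coe.2 d.le_orb)
      (inf_le_centralizer_orb _ _ (mem_inf.2 ⟨hl, mul_mem (inv_mem (e2 l)) he.2⟩))
    have := mul_mem (le_normalizer (d.mem_K l)) (centralizer_le_normalizer _ h1)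
    simpa using this
  have hm : (ν.range.comap (piO 2 G) ⊓ Cx b).map (piO 2 G) = ν.range := by
    refine le_antisymm (map_le_iff_le_comap.2 inf_le_left) fun y hy => ?_
    obtain ⟨c, hc, rfl⟩ := (PA.map_Cx hb).ge (hC hy)
    exact mem_map_of_mem _ ⟨hy, hc⟩
  refine ⟨pElementClosure 2 (ν.range.comap (piO 2 G) ⊓ Cx b), ⟨(pec_subnIn _).trans ?_, ?_⟩, fun k hk h2 hc => ?_⟩
  · have := (hS.comap (piO 2 G)).inf_right (Cx b)
    rwa [inf_eq_right.2 (map_le_iff_le_comap.1 (PA.map_Cx hb).le)] at this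
  · exact isPQs_of_map (piO 2 G) (coprime_card_of_le_opOf (H := ⊤) (by rw [opOf_top, ker_piO]; exact inf_le_right))
      (by rwa [map_pec, hm, hq.pec_eq]) (pec_pec _)
  · obtain ⟨i, hi⟩ := PA.two_mul h2 (StdInt.two_conj b h2) hc
    have hb2 := inv_eq_of_orderOf_two hb
    refine mem_pec_of_pow ⟨⟨⟨_, mem_map_of_mem _ hk⟩, ?_⟩, mem_Cx.2 ?_⟩ hi
    · rw [e1, hb2, pow_two]; simp only [map_mul, mul_assoc]
    · conv_rhs => rw [hc.eq, hb2]
      simp only [mul_assoc, inv_mul_cancel, mul_one]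
      rw [← mul_assoc b b, sq_of_ord hb, one_mul]

/-- `L`-balance inside `X` -/
theorem bal (hx : orderOf x = 2) (hX : x ∈ X) (h : PC 2 J (X ⊓ Cx x)) : J ≤ pLayerOf 2 X := by
  rw [← map_subgroupOf_eq_of_le (h.le.trans inf_le_left)]
  exact map_mono (bal_two_singleton (PA.ord hX hx) (PA.sub hX h))

theorem exists_up (ht : orderOf t = 2) (hJ : t ∈ J) (h : PC 2 J (X ⊓ Cx t)) : ∃ L, PC 2 L X ∧ J ≤ L := by
  have hJX := h.le.trans inf_le_left
  obtain ⟨L, h1, h2⟩ := PA.up (PA.ord (hJX hJ) ht) (mem_subgroupOf.2 hJ) (PA.sub (hJX hJ) h)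
  exact ⟨_, pc_map_subtype.2 h1, (map_subgroupOf_eq_of_le hJX).ge.trans (map_mono h2)⟩

theorem Ctx.pu' (c : Ctx n G) (hX : X ≠ ⊤) (h : Intr n X t J) (hL : PC 2 L X) (hJ : J ≤ L) : Pu n t J L :=
  c.pu L (fun e => hX (top_le_iff.1 (e.ge.trans hL.le))) hL.pqs t J (h.of_le hJ hL.le)

theorem Ctx.up (c : Ctx n G) (hX : X ≠ ⊤) (h : Intr n X t J) : ∃ L, PC 2 L X ∧ Pu n t J L :=
  (exists_up h.ord h.mem h.pc).imp fun _ e => ⟨e.1, c.pu' hX h e.1 e.2⟩

/-- the diagonal component -/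
theorem dg (hK : PC 2 K X) (hb : orderOf b = 2) (hX : b ∈ X) (hn : b ∉ N K) :
    ∃ J, PC 2 J (X ⊓ Cx b) ∧ ∀ k ∈ K, Two k → Commute k (b * k * b⁻¹) → k * (b * k * b⁻¹) ∈ J := by
  obtain ⟨J, h1, h2⟩ := PA.dg (b := ⟨b, hX⟩) hK.sub (PA.ord hX hb) fun e => hn (by
    have := (mem_normalizer_map_iff X.subtype_injective).2 e
    rwa [map_subgroupOf_eq_of_le hK.le] at this)
  refine ⟨J.map X.subtype, ?_, fun k hk h3 h4 => ?_⟩
  · have := h1.map X.subtype (by simp)
    rwa [Cx, centralizer_singleton_subgroup, subgroupOf_map_subtype, inf_comm] at this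
  · exact mem_map_of_mem X.subtype (h2 ⟨k, hK.le hk⟩ (mem_subgroupOf.2 hk) (StdInt.two_coe.1 h3) (Subtype.ext h4))

theorem layer_comm (h : ∀ L, PC 2 L X → a ∈ cm L) (ha : a ∈ X) (hv : v ∈ pLayerOf 2 X) : ⁅a, v⁆ ∈ O X := by
  let V : Subgroup G :=
    { carrier := {v | v ∈ X ∧ ⁅a, v⁆ ∈ O X}
      one_mem' := ⟨one_mem _, by simp⟩
      mul_mem' := fun {p q} hp hq => ⟨mul_mem hp.1 hq.1, by
        have := mul_mem hp.2 (conj_mem_of_mem_normalizer (le_normalizer_opOf X hp.1) hq.2)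
        convert this using 1
        simp only [commutatorElement_def]; group⟩
      inv_mem' := fun {p} hp => ⟨inv_mem hp.1, by
        have := inv_mem (conj_mem_of_mem_normalizer' (le_normalizer_opOf X hp.1) hp.2)
        convert this using 1
        simp only [commutatorElement_def]; group⟩ }
  exact (pLayerOf_le_iff (M := V).2 (fun L hL l hl => ⟨hL.le hl, hL.opOf_le (mem_cmod.1 (h L hL) l hl)⟩) hv).2

end CfsgLib.Sol
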