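import Mathlib
import Cfsg.Agent.Lib.Sol.PctA
import Cfsg.Agent.Lib.Sol.Act1
import Cfsg.Agent.Lib.Sol.Act2

/-! Commuting involutions with intrinsic components. -/

set_option autoImplicit false
set_option linter.unusedSectionVars false
set_option linter.style.haveILetI false
set_option linter.unusedVariables false

namespace CfsgLib.Sol

open Cfsg Subgroup CfsgLib.PComp CfsgLib.Tech CfsgLib.W2 Equiv Equiv.Perm
open CfsgLib.LBal hiding cj
open CfsgLib.StdInt (Two)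
open CfsgLib.AltAut (tc)
open scoped commutatorElement

universe u

variable {G : Type u} [Group G] [Finite G] {n : ℕ} {X Y J K L M P Q W : Subgroup G} {a b c t u v w x y z : G}


/-- L1 -/
theorem Ctx.ky_le (c : Ctx n G) (hK : In n z K) (hJ : In n w J) (h1 : z ≠ w) (h2 : Commute z w) (h : w ∈ cm K) :
    Ky 2 K w ≤ cm J := by
  have i := hK.ky hJ.ord h2 h
  obtain ⟨L, hL, p⟩ := c.up (c.Cx_ne hK (ne_one_of_ord hJ.ord)) i
  refine p.le.trans (PC_ne hJ.pc hL ?_)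
  rintro rfl
  rcases p.alt with e | e
  · exact h1 (hJ.ty.eq (p.le i.mem) e hK.ord hJ.mem hJ.cm hJ.ord h2)
  · exact not_mem_O hJ.ord (e.zen ⟨hJ.mem, hJ.cm⟩)

theorem Ctx.symm (c : Ctx n G) (hK : In n z K) (hJ : In n w J) (h2 : Commute z w) (h : w ∈ cm K) : z ∈ cm J := by
  by_cases e : z = w
  · exact e ▸ hJ.cm
  · exact c.ky_le hK hJ e h2 h (hK.ky hJ.ord h2 h).mem

theorem Ctx.indep (c : Ctx n G) (hK : In n z K) (hL : In n z L) (hJ : In n w J) (h2 : Commute z w)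
    (h : w ∈ cm K) : w ∈ cm L := c.symm hJ hL h2.symm (c.symm hK hJ h2 h)

theorem In.eq (hK : In n z K) (hu : u ∈ K) (h1 : orderOf u = 2) (h : u ∈ Sol.cm K) : u = z := by
  exact hK.ty.eq hu h h1 hK.mem hK.cm hK.ord (mem_Cx.1 (hK.pc.le hu))

/-- the proper pump-up fuses `t` -/
theorem TyY.fus (h : TyY n t J L) (hJ : Intr n X t J) (hL : J ≤ L) :
    ∃ l ∈ L, l * t * l⁻¹ ∈ J ∧ l * t * l⁻¹ ≠ t := by
  obtain ⟨r, A⟩ := hJ.act
  obtain ⟨u, h1, h2, h3⟩ := A.exists_inv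
  obtain ⟨l, hl, e⟩ := h.one u (hL h1) h2
  exact ⟨l, hl, e ▸ h1, e ▸ h3⟩

theorem Ctx.noY (c : Ctx n G) (h : ∀ w K u, IsConj z w → In n w K → IsConj z u → u ∈ K → u = w) : NoY n z := by
  intro w x K L hw hK hx hc hxK hL hKL
  have i := hK.ky hx hc hxK
  refine (c.pu' (c.Cx_ne hK (ne_one_of_ord hx)) i hL hKL).alt.resolve_right fun e => ?_
  obtain ⟨l, -, h1, h2⟩ := e.fus i hKL
  exact h2 (h w K _ hw hK (isConj_conj hw l) (LBal.ky_le K x h1))

/-- TI -/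
theorem Ctx.ti (c : Ctx n G) (hY : NoY n t) (hz : IsConj t z) (hw : IsConj t w) (hK : In n z K) (hJ : In n w J)
    (h2 : Commute z w) (hx : orderOf x = 2) (h3 : Commute z x) (h4 : Commute w x) (h5 : x ∈ cm K)
    (h6 : x ∈ cm J) : w ∈ cm K := by
  have i := hK.ky hx h3 h5
  have j := hJ.ky hx h4 h6
  obtain ⟨L, hL, p⟩ := c.up (c.Cx_ne hK (ne_one_of_ord hx)) i
  obtain ⟨L', hL', p'⟩ := exists_up j.ord j.mem j.pc
  have e1 := hY z x K L hz hK hx h3 h5 hL p.le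
  have e2 := hY w x J L' hw hJ hx h4 h6 hL' p'
  by_cases e : L = L'
  · subst e
    rw [← (p.tyA hL.pqs hK.ord i.ty e1).2.eq (p.le i.mem) e1 hK.ord (p' j.mem) e2 hJ.ord h2]
    exact hK.cm
  · exact descend hK.pc hx h5 (mem_Cx.2 h2.symm) (mem_Cx.2 h4) fun k hk =>
      hL.opOf_le (mem_cmod.1 (PC_ne hL hL' e (p' j.mem)) k (p.le hk))

/-- the product of two different commuting involutions -/
theorem ord_mul (ha : orderOf a = 2) (hb : orderOf b = 2) (h : Commute a b) (hn : b ≠ a) : orderOf (a * b) = 2 :=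
  ord_two (by rw [mul_assoc, ← mul_assoc b, ← h.eq, mul_assoc, sq_of_ord hb, mul_one, sq_of_ord ha]) fun e =>
    hn (by rw [← inv_eq_of_orderOf_two ha, ← eq_inv_of_mul_eq_one_right e])

/-- an involution centralises the product of an element with its commuting conjugate -/
theorem mem_Cx_sw (hb : orderOf b = 2) (h : Commute z (b * z * b⁻¹)) : b ∈ Cx (z * (b * z * b⁻¹)) := by
  refine mem_Cx.2 ?_
  conv_lhs => rw [h.eq, inv_eq_of_orderOf_two hb]
  simp only [mul_assoc, inv_mul_cancel, mul_one]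
  rw [← mul_assoc b b, sq_of_ord hb, one_mul]

/-- an involution exchanging two perpendicular involutions does not normalise the pump-up -/
theorem Ctx.sw0 (c : Ctx n G) (hK : In n z K) (hb : orderOf b = 2) (h1 : b * z * b⁻¹ ≠ z)
    (h2 : Commute z (b * z * b⁻¹)) (h3 : b * z * b⁻¹ ∈ cm K) (hL : PC 2 L (Cx (z * (b * z * b⁻¹))))
    (h4 : Ky 2 K (z * (b * z * b⁻¹)) ≤ L) : b ∉ N L := by
  intro hn
  have hv := ord_mul hK.ord ((ord_conj b z).trans hK.ord) h2 h1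
  have hc : Commute z (z * (b * z * b⁻¹)) := (Commute.refl z).mul_right h2
  have i := hK.ky hv hc (mul_mem hK.cm h3)
  have p := c.pu' (c.Cx_ne hK (ne_one_of_ord hv)) i hL h4
  have m := mul_mem (h4 i.mem) (conj_mem_of_mem_normalizer hn (h4 i.mem))
  have m' : z * (b * z * b⁻¹) ∈ cm L := centralizer_le_cmod L fun _ hl => mem_Cx.1 (hL.le hl)
  rcases p.alt with e | e
  · have := (p.tyA hL.pqs hK.ord i.ty e).2.eq (h4 i.mem) e hK.ord m m' hv hc
    exact ne_one_of_ord ((ord_conj b z).trans hK.ord) (left_eq_mul.1 this)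
  · exact not_mem_O hv (e.zen ⟨m, m'⟩)

/-- SW1 -/
theorem Ctx.sw1 (c : Ctx n G) (hK : In n z K) (hJ : In n b J) (h2 : Commute z (b * z * b⁻¹))
    (h3 : b * z * b⁻¹ ∈ cm K) : b * z * b⁻¹ = z := by
  by_contra h1
  have hb := hJ.ord
  have hv := ord_mul hK.ord ((ord_conj b z).trans hK.ord) h2 h1
  have hc : Commute z (z * (b * z * b⁻¹)) := (Commute.refl z).mul_right h2
  have i := hK.ky hv hc (mul_mem hK.cm h3)
  obtain ⟨L, hL, p⟩ := exists_up i.ord i.mem i.pc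
  have n0 := c.sw0 hK hb h1 h2 h3 hL p
  have bv := mem_Cx_sw hb h2
  obtain ⟨J0, hJ0, d⟩ := dg hL hb bv n0
  generalize hve : z * (b * z * b⁻¹) = v at *
  have bY : b ∈ N (Cx v ⊓ Cx z) := mem_normalizer_of_forall fun y hy => mem_inf.2 ⟨mul_mem (mul_mem bv hy.1) (inv_mem bv), by
    have h4 : z⁻¹ * v ∈ Cx y := mul_mem (inv_mem (Cx_comm.1 hy.2)) (Cx_comm.1 hy.1)
    have h5 := (conj_mem_Cx (g := b)).2 (Cx_comm.1 h4)
    rwa [← hve, inv_mul_cancel_left, show b * (b * z * b⁻¹) * b⁻¹ = b * b * z * (b * b)⁻¹ by group,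
      sq_of_ord hb, one_mul, inv_one, mul_one] at h5⟩
  have bK : b ∉ N (Ky 2 K v) := fun e => n0 (mem_normalizer_iff_cj.2 (PC_eq (hL.cj_mem bv) hL i.pc.pqs
    ((mem_normalizer_iff_cj.1 e).ge.trans (cj_mono b p)) p))
  obtain ⟨r, A⟩ := i.act
  obtain ⟨T, hT, hTK, -, -, i0, hi, j0, hj, e1, e2, e3, -⟩ := A.qc (one_mem _) (mul_one 1)
  obtain ⟨g, hg, hp⟩ := pair i.pc hb bY bK hT (hTK.trans inf_le_left)
  have key : ∀ q ∈ T, q * q = z → (g * q * g⁻¹) * (b * (g * q * g⁻¹) * b⁻¹) ∈ J0 ∧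
      (g * q * g⁻¹) * (b * (g * q * g⁻¹) * b⁻¹) * ((g * q * g⁻¹) * (b * (g * q * g⁻¹) * b⁻¹)) = v := fun q hq e => by
    have h4 := hp _ (conj_mem_cj.2 hq) _ (conj_mem_cj.2 hq)
    refine ⟨d _ (p (mul_mem (mul_mem hg (hTK hq).1) (inv_mem hg))) (StdInt.two_conj g (two_of_mem hT hq)) h4, ?_⟩
    have h5 : g * q * g⁻¹ * (g * q * g⁻¹) = z := by
      rw [← mem_Cx'.1 (i.cen hg), ← e]; group
    rw [← pow_two, h4.mul_pow, conj_pow (a := b), pow_two, h5, hve]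
  have hN : J0 ≤ N J := (bal hv (Cx_comm.1 bv) (by rwa [inf_comm])).trans hJ.pc.pLayerOf_le_normalizer
  obtain ⟨r', B⟩ := hJ.act
  have vJ : v ∈ cm J := B.ql' (X := N J ⊓ (Cx v ⊓ Cx b)) (hJ0.of_le (le_inf hN hJ0.le) inf_le_right) (sq_of_ord hv)
    (inf_le_inf_left _ inf_le_left)
    (le_inf (inf_le_left.trans le_normalizer) (le_inf inf_le_right (inf_le_left.trans hJ.pc.le)))
    (key i0 hi e1).1 (key j0 hj e2).1 (key i0 hi e1).2 (key j0 hj e2).2 (by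
      have h4 := hp _ (conj_mem_cj.2 hj) _ (conj_mem_cj.2 hi)
      have h5 : g * i0 * g⁻¹ * (b * (g * i0 * g⁻¹) * b⁻¹) * (g * j0 * g⁻¹ * (b * (g * j0 * g⁻¹) * b⁻¹)) =
          g * (i0 * j0) * g⁻¹ * (b * (g * (i0 * j0) * g⁻¹) * b⁻¹) := by
        rw [mul_assoc, ← mul_assoc (b * (g * i0 * g⁻¹) * b⁻¹), ← h4.eq]; group
      rw [h5]
      exact (key _ (mul_mem hi hj) e3).2)
  have j := hJ.ky hv (mem_Cx.1 bv) vJ
  obtain ⟨L', hL', p'⟩ := exists_up j.ord j.mem j.pc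
  exact n0 (hL.le_normalizer hL' (p' j.mem))

end CfsgLib.Sol
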