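import Mathlib
import Cfsg.Agent.Lib.Sol.Bas
import Cfsg.Agent.Lib.Sol.Act2

/-! Not all commuting conjugates are perpendicular. -/

set_option autoImplicit false
set_option linter.unusedSectionVars false
set_option linter.style.haveILetI false
set_option linter.unusedVariables false

namespace CfsgLib.Sol

open Cfsg Subgroup CfsgLib.PComp CfsgLib.Tech CfsgLib.W2 Equiv Equiv.Perm
open CfsgLib.LBal hiding cj
open CfsgLib.StdInt (Two)
open CfsgLib.AltAut (tc)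
open scoped commutatorElement

universe u

variable {G : Type u} [Group G] [Finite G] {n : ℕ} {X Y J K L M P Q W : Subgroup G} {a b c t u v w x y z : G}


/-- the subgroup generated by the conjugates of `z` in `S` -/
def AS (z : G) (S : Subgroup G) : Subgroup G := closure {w | w ∈ S ∧ IsConj z w}

theorem AS_le_iff {S : Subgroup G} : AS z S ≤ X ↔ ∀ w ∈ S, IsConj z w → w ∈ X :=
  (closure_le _).trans ⟨fun h w h1 h2 => h ⟨h1, h2⟩, fun h w e => h w e.1 e.2⟩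

theorem mem_AS {S : Subgroup G} (h1 : w ∈ S) (h2 : IsConj z w) : w ∈ AS z S := subset_closure ⟨h1, h2⟩

theorem AS_le (S : Subgroup G) : AS z S ≤ S := AS_le_iff.2 fun _ h _ => h

theorem cj_AS (g : G) (S : Subgroup G) : cj g (AS z S) = AS z (cj g S) := by
  have key : ∀ (g : G) (S : Subgroup G), cj g (AS z S) ≤ AS z (cj g S) := fun g S =>
    map_le_iff_le_comap.2 (AS_le_iff.2 fun w h1 h2 => mem_AS (conj_mem_cj.2 h1) (isConj_conj h2 g))
  refine le_antisymm (key g S) ?_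
  have := cj_mono g (key g⁻¹ (cj g S))
  rwa [cj_cj_inv, cj_inv_cj] at this

theorem AS_eq {S T : Subgroup G} (hS : IsSylowIn 2 S ⊤) (hT : IsSylowIn 2 T ⊤) (h : AS z S ≤ T) :
    AS z S = AS z T := by
  obtain ⟨g, -, rfl⟩ := hS.exists_cj_eq hT
  exact eq_of_le_of_card_ge (AS_le_iff.2 fun w h1 h2 => mem_AS (h (mem_AS h1 h2)) h2)
    (by rw [← cj_AS, card_cj])

/-- all commuting conjugates are perpendicular -/
structure Al (n : ℕ) (z : G) : Prop where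
  c : Ctx n G
  ex : ∃ K, In n z K
  perp : ∀ w u J, IsConj z w → IsConj z u → In n w J → Commute w u → u ∈ cm J

namespace Al

variable (R : Al n z) {S T : Subgroup G}
include R

theorem int (hw : IsConj z w) : ∃ J, In n w J := R.ex.elim fun _ h => h.exists_of_isConj hw

theorem noY : NoY n z := R.c.noY fun w K u hw hK hu h =>
  hK.eq h ((R.int hu).elim fun _ e => e.ord) (R.perp w u K hw hu hK (mem_Cx.1 (hK.pc.le h)).symm)

theorem comm (k : ℕ) : ∀ {a b : G}, IsConj z a → IsConj z b → (a * b) ^ 2 ^ k = 1 → Commute a b := by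
  induction k with
  | zero => intro a b _ _ h; rw [pow_zero, pow_one] at h; rw [eq_inv_of_mul_eq_one_left h]; simp
  | succ k ih =>
    intro a b ha hb h
    obtain ⟨K, hK⟩ := R.int ha
    obtain ⟨J, hJ⟩ := R.int hb
    have h1 := ih ha (isConj_conj ha b) (by
      rw [inv_eq_of_orderOf_two hJ.ord, ← h, pow_succ', pow_mul, pow_two]; simp only [mul_assoc])
    exact (mem_Cx.1 (mem_Cx'.2 (R.c.sw1 hK hJ h1 (R.perp _ _ K ha (isConj_conj ha b) hK h1)))).symm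

theorem comm' (hS : IsPGroup 2 S) (h1 : a ∈ S) (ha : IsConj z a) (h2 : b ∈ S) (hb : IsConj z b) : Commute a b :=
  (two_of_mem hS (mul_mem h1 h2)).elim fun k h => R.comm k ha hb h

theorem le_Cx (hS : IsPGroup 2 S) (ha : a ∈ AS z S) : AS z S ≤ Cx a :=
  AS_le_iff.2 fun w h1 h2 => Cx_comm.1 (AS_le_iff.2 (fun u h3 h4 => mem_Cx.2 (R.comm' hS h3 h4 h1 h2)) ha)

theorem ord (hS : IsPGroup 2 S) (ha : a ∈ AS z S) (h : a ≠ 1) : orderOf a = 2 := by
  refine ord_two ?_ h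
  induction ha using closure_induction with
  | mem x hx => exact (R.int hx.2).elim fun _ e => sq_of_ord e.ord
  | one => exact mul_one 1
  | mul x y hx hy h1 h2 =>
    have hc : Commute y x := mem_Cx.1 (R.le_Cx hS hx hy)
    by_cases e1 : x = 1
    · subst e1; rw [one_mul] at h ⊢; exact h2 h
    by_cases e2 : y = 1
    · subst e2; rw [mul_one] at h ⊢; exact h1 h
    rw [mul_assoc, ← mul_assoc y, hc.eq, mul_assoc, h2 e2, mul_one, h1 e1]
  | inv x hx h1 => rw [← mul_inv_rev, h1 (fun e => h (by rw [e, inv_one])), inv_one]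

theorem mem_cm (hS : IsSylowIn 2 S ⊤) (ha : a ∈ AS z S) (hu : IsConj z u) (hc : u ∈ Cx a) (hJ : In n u J) :
    a ∈ cm J := by
  obtain ⟨T, hT, h1⟩ := exists_isSylowIn_ge (hS.pgroup.to_le (AS_le S)) (R.le_Cx hS.pgroup ha)
  obtain ⟨g, hg, h2⟩ := hT.exists_conj_mem hc (two_iff.1 (two_of_ord hJ.ord))
  obtain ⟨U, hU, h3⟩ := exists_isSylowIn_ge hT.pgroup le_top
  rw [AS_eq hS hU (h1.trans h3)] at ha
  rw [← conj_mem_cm (g := g), mem_Cx'.1 hg]
  exact AS_le_iff.2 (fun w h4 h5 => R.perp _ w _ (isConj_conj hu g) h5 (hJ.cj g)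
    (R.comm' hU.pgroup (h3 h2) (isConj_conj hu g) h4 h5)) ha

theorem three (hS : IsSylowIn 2 S ⊤) (ha : a ∈ AS z S) (h1 : a ≠ 1) (hu : IsConj z u) (hc : u ∈ Cx a) :
    u ∈ pLayerOf 2 (Cx a) ∧ ∀ L, PC 2 L (Cx a) → u ∈ cm L := by
  obtain ⟨J, hJ⟩ := R.int hu
  have h2 := R.ord hS.pgroup ha h1
  have h3 := R.mem_cm hS ha hu hc hJ
  have i := hJ.ky h2 (mem_Cx.1 hc) h3
  obtain ⟨L, hL, p⟩ := exists_up i.ord i.mem i.pc
  refine ⟨hL.le_pLayerOf (p i.mem), fun L' hL' => ?_⟩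
  by_cases e : L' = L
  · exact e ▸ R.noY u a J L hu hJ h2 (mem_Cx.1 hc) h3 hL p
  · exact PC_ne hL' hL e (p i.mem)

theorem cen (hS : IsSylowIn 2 S ⊤) (hb : b ∈ AS z S) (h1 : b ≠ 1) (hP : IsPGroup 2 P)
    (h : P ≤ pLayerOf 2 (Cx b)) : ∃ o ∈ Cx b, ∀ p ∈ P, ∀ q ∈ AS z S, Commute p (o * q * o⁻¹) := by
  have h2 := R.le_Cx hS.pgroup hb
  obtain ⟨o, ho, e⟩ := inv2 (odd_card_opOf (Cx b)) hP (hS.pgroup.to_le (AS_le S))
    (h.trans ((pLayerOf_le _).trans (le_normalizer_opOf _))) (h2.trans (le_normalizer_opOf _)) fun p hp q hq => by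
      rw [← commutatorElement_inv]
      exact inv_mem (layer_comm (fun L hL => AS_le_iff.2 (fun w h3 h4 =>
        (R.three hS hb h1 h4 (h2 (mem_AS h3 h4))).2 L hL) hq) (h2 hq) (h hp))
  exact ⟨o, opOf_le _ ho, e⟩

theorem claim (hS : IsSylowIn 2 S ⊤) (hT : IsSylowIn 2 T ⊤) (hb : b ∈ AS z T) (h1 : b ≠ 1) (h2 : b ∈ S) :
    AS z S ≤ Cx b := by
  refine AS_le_iff.2 fun w h3 hw => Cx_comm.1 (mem_Cx'.2 (by_contra fun hn => ?_))
  obtain ⟨J, hJ⟩ := R.int hw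
  have ob := R.ord hT.pgroup hb h1
  have h4 : b * w * b⁻¹ ∈ S := mul_mem (mul_mem h2 h3) (inv_mem h2)
  have hc := R.comm' hS.pgroup h3 hw h4 (isConj_conj hw b)
  have h5 := R.perp _ _ J hw (isConj_conj hw b) hJ hc
  have hv := ord_mul hJ.ord ((ord_conj b w).trans hJ.ord) hc hn
  have i := hJ.ky hv ((Commute.refl w).mul_right hc) (mul_mem hJ.cm h5)
  obtain ⟨L, hL, p⟩ := exists_up i.ord i.mem i.pc
  have n0 := R.c.sw0 hJ ob hn hc h5 hL p
  have bv := mem_Cx_sw ob hc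
  obtain ⟨J0, hJ0, d⟩ := dg hL ob bv n0
  obtain ⟨o, ho, e⟩ := R.cen hT hb h1 (two_iff.1 (two_of_ord hv)) (zpowers_le.2
    (bal hv (Cx_comm.1 bv) (by rwa [inf_comm]) (d w (p i.mem) (two_of_ord hJ.ord) hc)))
  have h6 : AS z T ≤ (cm L).comap (MulAut.conj o).toMonoidHom := AS_le_iff.2 fun u h7 h8 =>
    (R.three hS (mul_mem (mem_AS h3 hw) (mem_AS h4 (isConj_conj hw b))) (ne_one_of_ord hv) (isConj_conj h8 o)
      (mem_Cx.2 (e _ (mem_zpowers _) u (mem_AS h7 h8)).symm)).2 L hL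
  have h7 : o * b * o⁻¹ ∈ cm L := h6 hb
  exact n0 (cmod_le_normalizer L (mem_Cx'.1 ho ▸ h7))

theorem four (hS : IsSylowIn 2 S ⊤) (hT : IsSylowIn 2 T ⊤) (hb : b ∈ AS z T) (h2 : b ∈ S) : b ∈ AS z S := by
  by_cases h1 : b = 1
  · exact h1 ▸ one_mem _
  have h3 := R.claim hS hT hb h1 h2
  have hA : IsPGroup 2 (AS z S) := hS.pgroup.to_le (AS_le S)
  obtain ⟨o, ho, e⟩ := R.cen hT hb h1 hA (AS_le_iff.2 fun w h4 h5 => (R.three hT hb h1 h5 (h3 (mem_AS h4 h5))).1)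
  obtain ⟨U, hU, h4⟩ := exists_isSylowIn_ge (hA.to_sup_of_normal_right'
    (isPGroup_cj o (hT.pgroup.to_le (AS_le T))) (le_trans (by
      rintro p hp _ ⟨q, hq, rfl⟩; exact (e p hp q hq).symm) (centralizer_le_normalizer _))) le_top
  rw [AS_eq hS hU (le_sup_left.trans h4), ← AS_eq (hT.cj_of_mem (mem_top o)) hU
    ((cj_AS o T).ge.trans (le_sup_right.trans h4)), ← cj_AS, ← mem_Cx'.1 ho]
  exact conj_mem_cj.2 hb

end Al

theorem Ctx.alpha (c : Ctx n G) (h : In n z K) :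
    ∃ w u J, IsConj z w ∧ IsConj z u ∧ In n w J ∧ Commute w u ∧ u ∉ cm J := by
  by_contra e
  push Not at e
  have R : Al n z := ⟨c, ⟨K, h⟩, e⟩
  haveI := c.simple
  obtain ⟨S, hS, hz⟩ := exists_isSylowIn_ge (two_iff.1 (two_of_ord h.ord)) le_top
  obtain ⟨r, A⟩ := h.act
  obtain ⟨v, hv, h1, s, hs, h2⟩ := A.noncentral hS
  refine h2 (GHM.comm_of_sc (c.not_comm h) hS (AS_le (z := z) S) (fun f => ne_one_of_ord h.ord ?_)
    (fun a ha b hb => mem_Cx.1 (R.le_Cx hS.pgroup hb ha)) (fun a ha g hg => R.four hS (hS.cj_of_mem (mem_top g))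
      (cj_AS g S ▸ conj_mem_cj.2 ha) hg) hv h1 hs)
  exact f.le (mem_AS (hz (mem_zpowers z)) (IsConj.refl z))

end CfsgLib.Sol
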