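import Mathlib
import Cfsg.Agent.Lib.Sol.Bas
import Cfsg.Agent.Lib.Sol.Act2

/-! The intrinsic component is unique. -/

set_option autoImplicit false
set_option linter.unusedSectionVars false
set_option linter.style.haveILetI false

namespace CfsgLib.Sol

open Cfsg Subgroup CfsgLib.PComp CfsgLib.Tech CfsgLib.W2 Equiv Equiv.Perm
open CfsgLib.LBal hiding cj
open CfsgLib.StdInt (Two)
open CfsgLib.AltAut (tc)
open scoped commutatorElement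

universe u

variable {G : Type u} [Group G] [Finite G] {n : ℕ} {X Y J K L M P Q W : Subgroup G} {a b c t u v w x y z : G}


theorem ro_comm_l (ha : a ∈ K) (hb : b ∈ N K) : ⁅a, b⁆ ∈ K := by
  rw [show ⁅a, b⁆ = a * (b * a⁻¹ * b⁻¹) by rw [commutatorElement_def]; group]
  exact mul_mem ha (conj_mem_of_mem_normalizer hb (inv_mem ha))

theorem ro_comm_r (ha : a ∈ N K) (hb : b ∈ K) : ⁅a, b⁆ ∈ K :=
  mul_mem (conj_mem_of_mem_normalizer ha hb) (inv_mem hb)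

theorem ro_cj_ne (h : a ∉ N K) : K ≠ cj a K := fun e => h (mem_normalizer_iff_cj.2 e.symm)

/-- MN -/
theorem mutual_norm (hK : In n z K) (hJ : In n w J) (h2 : Commute z w) (h3 : w ∈ N K) (ha : a ∈ J ⊓ Cx z)
    (h4 : a ∉ N K) : z ∈ J := by
  have _ := h2
  obtain ⟨r, A⟩ := hK.act
  have hc : ∀ k ∈ K, a * k * a⁻¹ ∈ cm K := fun k hk =>
    PC_ne hK.pc (hK.cj_of_mem ha.2).pc (ro_cj_ne h4) (conj_mem_cj.2 hk)
  have hKN : K ≤ N K := le_normalizer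
  have hcN : cm K ≤ N K := cmod_le_normalizer K
  have hEJ : pLayerOf 2 (Cx w) ≤ N J := hJ.pc.pLayerOf_le_normalizer
  have hE := le_N_layer (Cx w)
  have haE : a ∈ pLayerOf 2 (Cx w) := hJ.pc.le_pLayerOf ha.1
  obtain ⟨T, -, hT, o, ho, i, hi, j, hj, e1, e2, e3, d1, d2, d3, c1, c2⟩ := A.qc h3 (sq_of_ord hJ.ord)
  have hi' := hT hi
  have hj' := hT hj
  have eg : ⁅o, a⁆ = o * (a * o⁻¹ * a⁻¹) := by rw [commutatorElement_def]; group
  have g1E : ⁅o, a⁆ ∈ pLayerOf 2 (Cx w) := ro_comm_r (hE ho.2) haE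
  have g1N : ⁅o, a⁆ ∈ N K := eg ▸ mul_mem (hKN ho.1) (hcN (hc _ (inv_mem ho.1)))
  have rg1 : r ⁅o, a⁆ = r o := by
    rw [eg, A.mul (hKN ho.1) (hcN (hc _ (inv_mem ho.1))), (A.ker (hcN (hc _ (inv_mem ho.1)))).2 (hc _ (inv_mem ho.1)),
      mul_one]
  generalize ⁅o, a⁆ = g1 at g1E g1N rg1
  have h1K := ro_comm_r g1N hi'.1
  have h1E := ro_comm_l g1E (hE hi'.2)
  have h2K := ro_comm_r g1N hj'.1
  have h2E := ro_comm_l g1E (hE hj'.2)
  have r1 : r ⁅g1, i⁆ = r i * r j := by rw [A.comm g1N (hKN hi'.1), rg1, c1]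
  have r2 : r ⁅g1, j⁆ = r i := by rw [A.comm g1N (hKN hj'.1), rg1, c2]
  generalize ⁅g1, i⁆ = x1 at h1K h1E r1
  generalize ⁅g1, j⁆ = x2 at h2K h2E r2
  have s2 : r j * r j = 1 := by rw [← A.mul (hKN hj'.1) (hKN hj'.1), e2, A.rz]
  have s3 : r i * r j * (r i * r j) = 1 := by
    rw [← A.mul (hKN hi'.1) (hKN hj'.1), ← A.mul (hKN (mul_mem hi'.1 hj'.1)) (hKN (mul_mem hi'.1 hj'.1)), e3, A.rz]
  have gJ : ⁅a, x1⁆ ∈ J := ro_comm_l ha.1 (hEJ h1E)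
  have gN : ⁅a, x1⁆ ∈ N K := mul_mem (hcN (hc _ h1K)) (inv_mem (hKN h1K))
  have rg : r ⁅a, x1⁆ = r i * r j := by
    rw [commutatorElement_def, A.mul (hcN (hc _ h1K)) (inv_mem (hKN h1K)), (A.ker (hcN (hc _ h1K))).2 (hc _ h1K),
      one_mul, A.inv (hKN h1K), r1, inv_eq_of_mul_eq_one_right s3]
  have e4 : r i * r j * r i = r j := by
    rw [← mul_left_inj (r j), s2, ← s3]; group
  exact A.z_mem (ro_comm_l gJ (hEJ h2E)) (A.cen (ro_comm_r gN h2K))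
    (A.anti gN h2K (rg ▸ d3) (r2 ▸ d1) (by rw [rg, r2, e4]; exact d2))

theorem Intr.exists_pair (h : Intr n X z K) (hb : orderOf b = 2) (h1 : b ∈ N (X ⊓ Cx z)) (h2 : b ∉ N K) :
    ∃ u ∈ K, orderOf u = 2 ∧ u ≠ z ∧ Commute u (b * u * b⁻¹) := by
  obtain ⟨r, A⟩ := h.act
  obtain ⟨u, hu, h3, h4⟩ := A.exists_inv
  obtain ⟨g, hg, e⟩ := pair h.pc hb h1 h2 (isPGroup_two_zpowers (sq_of_ord h3)) (zpowers_le.2 hu)
  have hm : g * u * g⁻¹ ∈ Tech.cj g (zpowers u) := conj_mem_cj.2 (mem_zpowers u)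
  refine ⟨g * u * g⁻¹, mul_mem (mul_mem hg hu) (inv_mem hg), (ord_conj g u).trans h3, fun e1 => h4 ?_, e _ hm _ hm⟩
  rw [← mem_Cx'.1 (h.cen hg)] at e1
  simpa using e1

/-- every involution of the class has two components -/
structure Rn (n : ℕ) (t : G) : Prop where
  ctx : Ctx n G
  ex : ∀ z, IsConj t z → ∃ K, In n z K
  two : ∀ z K, IsConj t z → In n z K → ∃ L, In n z L ∧ K ≠ L

/-- a non-perpendicular pair -/
structure NP (n : ℕ) (t z w : G) : Prop where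
  cz : IsConj t z
  cw : IsConj t w
  comm : Commute z w
  np : ∀ K, In n z K → w ∉ cm K

namespace Rn

variable (R : Rn n t)
include R

theorem eq (hz : IsConj t z) (hK : In n z K) (hu : IsConj t u) (h : u ∈ K) : u = z := by
  obtain ⟨L, hL, hne⟩ := R.two z K hz hK
  obtain ⟨J, hJ⟩ := R.ex u hu
  exact hK.eq h hJ.ord (R.ctx.indep hL hK hJ (mem_Cx.1 (hK.pc.le h)).symm (PC_ne hL.pc hK.pc hne.symm h))

theorem noY : NoY n t := R.ctx.noY fun _ _ _ hw hK hu h => R.eq hw hK hu h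

theorem np (hz : IsConj t z) (hw : IsConj t w) (hK : In n z K) (h2 : Commute z w) (h3 : w ∉ cm K) : NP n t z w :=
  let ⟨_, hJ⟩ := R.ex w hw
  ⟨hz, hw, h2, fun _ hL e => h3 (R.ctx.indep hL hK hJ h2 e)⟩

theorem symm (h : NP n t z w) : NP n t w z :=
  let ⟨K, hK⟩ := R.ex z h.cz
  ⟨h.cw, h.cz, h.comm.symm, fun _ hJ e => h.np K hK (R.ctx.symm hJ hK h.comm.symm e)⟩

theorem le_N (h : NP n t z w) (hK : In n z K) (hJ : In n w J) (h1 : z ∈ N J) : K ⊓ Cx w ≤ N J := fun _ ha =>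
  by_contra fun e => h.np K hK (R.eq h.cz hK h.cw (mutual_norm hJ hK h.comm.symm h1 ha e) ▸ hK.cm)

/-- (II) -/
theorem not_both (h : NP n t z w) (hK : In n z K) (hJ : In n w J) (h1 : w ∈ N K) (h2 : z ∈ N J) : False := by
  have hKJ := R.le_N h hK hJ h2
  have hJK := R.le_N (R.symm h) hJ hK h1
  obtain ⟨K2, hK2, n1⟩ := R.two z K h.cz hK
  obtain ⟨J2, hJ2, n2⟩ := R.two w J h.cw hJ
  have ho : Odd (Nat.card ↥(K ⊓ J)) := odd_card_iff_no_involution.2 fun x hx e =>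
    h.np K2 hK2 (R.ctx.ti R.noY h.cz h.cw hK2 hJ2 h.comm e (mem_Cx.1 (hK.pc.le hx.1)).symm
      (mem_Cx.1 (hJ.pc.le hx.2)).symm (PC_ne hK2.pc hK.pc n1.symm hx.1) (PC_ne hJ2.pc hJ.pc n2.symm hx.2))
  obtain ⟨r, A⟩ := hK.act
  obtain ⟨r', A'⟩ := hJ.act
  obtain ⟨T, -, hT, o, -, i, hi, j, hj, e1, e2, e3, -⟩ := A.qc h1 (sq_of_ord hJ.ord)
  refine (R.symm h).np J hJ (A'.ql (hKJ (hT hi)) (hKJ (hT hj)) (sq_of_ord hK.ord) e1 e2 e3 fun y hy hc _ => ?_)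
  exact StdInt.odd_of_mem ho ⟨ro_comm_l (hT hi).1 (hJK ⟨hy, mem_Cx.2 hc.symm⟩), ro_comm_r (hKJ (hT hi)) hy⟩

omit R in
theorem mem_N (hK : In n z K) (hJ : In n w J) (hc : Commute z w) (h1 : w ∉ N K) (hu : u ∈ K) (h2 : orderOf u = 2)
    (h4 : Commute u (w * u * w⁻¹)) : u * (w * u * w⁻¹) ∈ N J := by
  obtain ⟨J0, hJ0, e⟩ := dg hK.pc hJ.ord (mem_Cx.2 hc.symm) h1
  rw [inf_comm] at hJ0
  exact hJ.pc.pLayerOf_le_normalizer (bal hK.ord (mem_Cx.2 hc) hJ0 (e u hu (two_of_ord h2) h4))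

/-- (S1) -/
theorem s1 (h : NP n t z w) (hK : In n z K) (h1 : w ∉ N K) (hu : u ∈ K) (h2 : orderOf u = 2) (h3 : u ≠ z)
    (h4 : Commute u (w * u * w⁻¹)) : orderOf (u * (w * u * w⁻¹)) = 2 ∧ Commute z (u * (w * u * w⁻¹)) ∧
      Commute w (u * (w * u * w⁻¹)) ∧ ∀ J, In n w J → u * (w * u * w⁻¹) ∈ cm J := by
  obtain ⟨J0, hJ0⟩ := R.ex w h.cw
  have uu := sq_of_ord h2
  have ww := sq_of_ord hJ0.ord
  have ui : u⁻¹ = u := inv_eq_of_mul_eq_one_right uu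
  have hK' := hK.cj_of_mem (mem_Cx.2 h.comm.symm)
  have huw : w * u * w⁻¹ ∈ cj w K := conj_mem_cj.2 hu
  have cz : Commute z u := (mem_Cx.1 (hK.pc.le hu)).symm
  have cw : Commute w (u * (w * u * w⁻¹)) := by
    have : w * (u * (w * u * w⁻¹)) * w⁻¹ = w * u * w⁻¹ * ((w * w) * u * (w * w)⁻¹) := by group
    rw [ww, one_mul, inv_one, mul_one, ← h4.eq] at this
    exact mul_inv_eq_iff_eq_mul.1 this
  have ej : u * (w * u * w⁻¹) * w = u * w * u⁻¹ := by rw [ui]; group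
  refine ⟨ord_two ?_ fun e => h3 (hK.eq hu h2 ?_), cz.mul_right (mem_Cx.1 (hK'.pc.le huw)).symm, cw, fun J hJ => ?_⟩
  · rw [h4.symm.mul_mul_mul_comm, uu, one_mul, show w * u * w⁻¹ * (w * u * w⁻¹) = w * (u * u) * w⁻¹ by group, uu]
    group
  · rw [← ui, ← eq_inv_of_mul_eq_one_right e]
    exact PC_ne hK.pc hK'.pc (ro_cj_ne h1) huw
  · have cw' := isConj_conj h.cw u
    obtain ⟨J', hJ'⟩ := R.ex _ cw'
    have e1 : u * w * u⁻¹ * u * (u * w * u⁻¹)⁻¹ = w * u * w⁻¹ := by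
      rw [show u * w * u⁻¹ * u * (u * w * u⁻¹)⁻¹ = u * (w * u * w⁻¹) * u⁻¹ by group, h4.eq]; group
    have n1 := mem_N hK hJ h.comm h1 hu h2 h4
    have n2 := mem_N hK hJ' ((cz.mul_right h.comm).mul_right cz.inv_right) (fun e => h1 (by
      have := mul_mem (mul_mem (inv_mem (le_normalizer hu)) e) (le_normalizer hu)
      rwa [show u⁻¹ * (u * w * u⁻¹) * u = w by group] at this)) hu h2 (e1.symm ▸ h4)
    rw [e1] at n2
    by_contra hn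
    refine R.not_both (R.np h.cw cw' hJ (ej ▸ cw.mul_right (Commute.refl w)) fun e => hn ?_) hJ hJ'
      (ej ▸ mul_mem n1 (le_normalizer hJ.mem)) ?_
    · exact (mul_mem_cancel_right hJ.cm).1 (ej ▸ e)
    · exact (mul_mem_cancel_left n2).1 (ej ▸ le_normalizer hJ'.mem)

/-- (S2) -/
theorem s2 (h : NP n t z w) (hK : In n z K) (h1 : w ∉ N K) (hL : In n z L) : L = K ∨ L = cj w K := by
  by_contra hn
  push Not at hn
  have hw : w ∈ Cx z := mem_Cx.2 h.comm.symm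
  obtain ⟨u, hu, h2, h3, h4⟩ := hK.intr.exists_pair (b := w) (R.ex w h.cw).choose_spec.ord
    (le_normalizer ⟨mem_top _, hw⟩) h1
  obtain ⟨e1, e2, e3, e4⟩ := R.s1 h hK h1 hu h2 h3 h4
  obtain ⟨J, hJ⟩ := R.ex w h.cw
  exact h.np L hL (R.ctx.ti R.noY h.cz h.cw hL hJ h.comm e1 e2 e3 (mul_mem (PC_ne hL.pc hK.pc hn.1 hu)
    (PC_ne hL.pc (hK.cj_of_mem hw).pc hn.2 (conj_mem_cj.2 hu))) (e4 J hJ))

/-- (S3) -/
theorem s3 (h : NP n t z w) (hK : In n z K) (h1 : w ∉ N K) (hJ : In n w J) : z ∉ N J := fun e => by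
  obtain ⟨r, A⟩ := hJ.act
  obtain ⟨T, -, hT, o, -, i, hi, j, -, e1, -⟩ := A.qc e (sq_of_ord hK.ord)
  exact h1 (e1 ▸ two_set (R.s2 h hK h1 (hK.cj_of_mem (hT hi).2))
    (R.s2 h hK h1 ((hK.cj_of_mem (mem_Cx.2 h.comm.symm)).cj_of_mem (hT hi).2)))

theorem not_mem_N (h : NP n t z w) (hK : In n z K) : w ∉ N K := fun e =>
  let ⟨_, hJ⟩ := R.ex w h.cw
  R.s3 (R.symm h) hJ (R.not_both h hK hJ e) hK e

/-- (S4) -/
theorem false (h : NP n t z w) : False := by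
  obtain ⟨K, hK⟩ := R.ex z h.cz
  obtain ⟨J, hJ⟩ := R.ex w h.cw
  have h' := R.symm h
  have n1 := R.not_mem_N h hK
  have n2 := R.not_mem_N h' hJ
  have hw : w ∈ Cx z := mem_Cx.2 h.comm.symm
  obtain ⟨v, hv, a2, a3, a4⟩ := hJ.intr.exists_pair hK.ord (le_normalizer ⟨mem_top _, mem_Cx.2 h.comm⟩) n2
  obtain ⟨b1, b2, b3, b4⟩ := R.s1 h' hJ n2 hv a2 a3 a4
  have ej : v * (z * v * z⁻¹) * z = v * z * v⁻¹ := by rw [inv_eq_of_mul_eq_one_right (sq_of_ord a2)]; group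
  have cz' := isConj_conj h.cz v
  have hcm : ∀ K, In n z K → v * z * v⁻¹ ∈ cm K := fun K hK => ej ▸ mul_mem (b4 K hK) hK.cm
  have hne : z ≠ v * z * v⁻¹ := fun e => ne_one_of_ord b1 (mul_right_cancel (ej.trans (e.symm.trans (one_mul z).symm)))
  have c1 : Commute z (v * z * v⁻¹) := ej ▸ b3.mul_right (Commute.refl z)
  have c2 : Commute w (v * z * v⁻¹) := ej ▸ b2.mul_right h.comm.symm
  have hz' : v * z * v⁻¹ ∉ cm J := fun e => h'.np J hJ (by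
    have := conj_mem_of_mem_normalizer' (normalizer_le_normalizer_cmod J (le_normalizer hv)) e
    rwa [show v⁻¹ * (v * z * v⁻¹) * v = z by group] at this)
  generalize v * z * v⁻¹ = z' at cz' hcm hne c1 c2 hz'
  obtain ⟨K'', hK''⟩ := R.ex z' cz'
  have hK' := hK.cj_of_mem hw
  have hI := hK.ky hK''.ord c1 (hcm K hK)
  have ek : cj w (Ky 2 K z') = Ky 2 (cj w K) z' := by rw [cj_Ky, mem_Cx'.1 (mem_Cx.2 c2)]
  obtain ⟨u, hu, h2, h3, h4⟩ := hI.exists_pair hJ.ord (le_normalizer ⟨mem_Cx.2 c2, hw⟩) fun e =>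
    ro_cj_ne n1 (PC_eq hK.pc hK'.pc hI.pc.pqs (ky_le K z')
      ((mem_normalizer_iff_cj.1 e).ge.trans (ek.le.trans (ky_le _ z'))))
  obtain ⟨e1, -, e3, e4⟩ := R.s1 h hK n1 (ky_le K z' hu) h2 h3 h4
  have hu' : w * u * w⁻¹ ∈ Ky 2 (cj w K) z' := ek ▸ conj_mem_cj.2 hu
  refine hz' (R.ctx.symm hK'' hJ c2.symm (R.ctx.ti R.noY cz' h.cw hK'' hJ c2.symm e1 ?_ e3 (mul_mem
    (R.ctx.ky_le hK hK'' hne c1 (hcm K hK) hu) (R.ctx.ky_le hK' hK'' hne c1 (hcm _ hK') hu')) (e4 J hJ)))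
  exact (mem_Cx.1 (mul_mem (ky_le' K z' hu) (ky_le' _ z' hu'))).symm

end Rn

theorem Ctx.rone (c : Ctx n G) (hz : IsConj t z) (hw : IsConj t w) (hK : In n z K) (h2 : Commute z w)
    (h3 : w ∉ cm K) (hu : IsConj t u) (hJ : In n u J) (hL : In n u L) : J = L := by
  by_contra hne
  have R : Rn n t := ⟨c, fun v hv => hK.exists_of_isConj (hz.symm.trans hv), fun v M hv hM => by
    obtain ⟨g, rfl⟩ := isConj_iff.1 (hu.symm.trans hv)
    by_cases e : M = cj g J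
    · exact ⟨_, hL.cj g, fun e' => hne (cj_injective g (e.symm.trans e'))⟩
    · exact ⟨_, hJ.cj g, e⟩⟩
  exact R.false (R.np hz hw hK h2 h3)

end CfsgLib.Sol
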