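import Mathlib
import Cfsg.Agent.Lib.Sol.Alpha
import Cfsg.Agent.Lib.Sol.ROne

/-! The degree is at most eleven. -/

set_option autoImplicit false
set_option linter.unusedSectionVars false
set_option linter.style.haveILetI false
set_option linter.unusedVariables false

namespace CfsgLib.Sol

open Cfsg Subgroup CfsgLib.PComp CfsgLib.Tech CfsgLib.W2 Equiv Equiv.Perm
open CfsgLib.LBal hiding cj
open CfsgLib.StdInt (Two)
open CfsgLib.AltAut (tc)
open scoped commutatorElement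

universe u

variable {G : Type u} [Group G] [Finite G] {n : ℕ} {X Y J K L M P Q W : Subgroup G} {a b c t u v w x y z : G}


section
variable {r r' : G → Perm (Fin n)}

theorem Act.pre_norm (A : Act n J z r) (hx : x ∈ N J) : N J ⊓ Cx x ≤ N (A.pre (fixS (r x))) := fun g hg =>
  mem_normalizer_of_forall fun a ha => ⟨mul_mem (mul_mem hg.1 ha.1) (inv_mem hg.1), by
    rw [A.conj hg.1 ha.1]; exact conj_mem_fixS (A.commute hg.1 hx (mem_Cx.1 hg.2)) ha.2⟩

theorem Act.cm_of_pre (A : Act n J z r) (h : x ∈ A.pre (fixS (r x))) : x ∈ cm J :=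
  (A.ker h.1).1 (eq_one_of_mem_fixS h.2)

/-- the elements of odd order of an invariant subgroup not containing `z` fix the support -/
theorem Act.fx (A : Act n J z r) (hx : x ∈ N J) (h1 : x * x = 1) (hM : M ≤ N J ⊓ Cx x) (hn : J ⊓ Cx x ≤ N M)
    (hz : z ∉ M) (ha : a ∈ M) (ho : Odd (orderOf a)) : a ∈ A.pre (fixS (r x)) :=
  ⟨(hM ha).1, fun p hp => by_contra fun hq =>
    hz (A.nrm1 hx h1 hM hn ha (ho.of_dvd_nat (A.orderOf_dvd (hM ha).1)) hp hq)⟩

/-- two involutions whose components are normal in the centralisers -/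
structure Bt (z w : G) (K J : Subgroup G) (r r' : G → Perm (Fin n)) : Prop where
  A : Act n K z r
  B : Act n J w r'
  h1 : Cx z ≤ N K
  h2 : Cx w ≤ N J
  h3 : Commute z w
  h4 : w ∉ cm K
  h5 : z ∉ cm J

namespace Bt

variable (R : Bt z w K J r r')
include R

theorem symm : Bt w z J K r' r := ⟨R.B, R.A, R.h2, R.h1, R.h3.symm, R.h5, R.h4⟩

theorem wN : w ∈ N K := R.h1 (mem_Cx.2 R.h3.symm)

theorem fx (hM : M ≤ Cx w ⊓ Cx z) (hn : Cx w ⊓ Cx z ≤ N M) (hw : w ∉ M) (ha : a ∈ M) (ho : Odd (orderOf a)) :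
    a ∈ R.B.pre (fixS (r' z)) :=
  R.B.fx R.symm.wN R.A.zz (hM.trans (inf_le_inf_right _ R.h2)) ((inf_le_inf_right _ R.B.cen).trans hn) hw ha ho

theorem nK : Cx w ⊓ Cx z ≤ N (K ⊓ Cx w) :=
  le_normalizer_inf (inf_le_right.trans R.h1) (inf_le_left.trans le_normalizer)

theorem mem : w ∈ K := by_contra fun h => R.h5 (R.B.cm_of_pre (R.A.all R.wN R.B.zz fun y h1 h2 h3 =>
  R.fx (le_inf inf_le_right (inf_le_left.trans R.A.cen)) R.nK (fun e => h e.1) ⟨h1, mem_Cx.2 h2.symm⟩ h3))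

theorem supp : n ≤ (r w).support.card + 3 := by
  by_contra h
  obtain ⟨p, hp, -⟩ := StdInt.AltS.exists_fixed (r w) [] (by simp; omega)
  obtain ⟨q, hq, h1⟩ := StdInt.AltS.exists_fixed (r w) [p] (by simp; omega)
  obtain ⟨s, hs, h2⟩ := StdInt.AltS.exists_fixed (r w) [p, q] (by simp; omega)
  have hn : [p, q, s].Nodup := by simp at h1 h2 ⊢; grind
  obtain ⟨y, y1, y2, y3, y4⟩ := R.A.lift_tc R.wN (two_of_ord R.B.ord) hn hp hq hs
  have m2 : y ∈ K ⊓ Cx w ⊓ R.A.pre (fixS (r w)) := ⟨⟨y1, mem_Cx.2 y2.symm⟩, le_normalizer y1, fun e he => by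
    have e1 : e ≠ p := fun f => he (f ▸ hp)
    have e2 : e ≠ q := fun f => he (f ▸ hq)
    have e3 : e ≠ s := fun f => he (f ▸ hs)
    rw [y4, tc, Perm.mul_apply, swap_apply_of_ne_of_ne e2 e3, swap_apply_of_ne_of_ne e1 e2]⟩
  have l2 : K ⊓ Cx w ⊓ R.A.pre (fixS (r w)) ≤ Cx w ⊓ Cx z :=
    inf_le_left.trans (le_inf inf_le_right (inf_le_left.trans R.A.cen))
  have n2 : Cx w ⊓ Cx z ≤ N (K ⊓ Cx w ⊓ R.A.pre (fixS (r w))) := le_normalizer_inf R.nK
    (le_trans (le_inf (inf_le_right.trans R.h1) inf_le_left) (R.A.pre_norm R.wN))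
  have m1 := R.fx l2 n2 (fun e => R.h4 (R.A.cm_of_pre e.2)) m2 y3
  refine R.h5 (R.B.cm_of_pre (R.A.nrm2 (M := K ⊓ Cx w ⊓ R.A.pre (fixS (r w)) ⊓ R.B.pre (fixS (r' z))) R.wN R.B.zz
    (inf_le_left.trans (inf_le_left.trans (inf_le_inf_right _ le_normalizer)))
    (le_trans (le_inf inf_le_right (inf_le_left.trans R.A.cen)) (le_normalizer_inf n2
      (le_trans (inf_le_inf_right _ R.h2) (R.B.pre_norm R.symm.wN)))) ⟨m2, m1⟩
    (y3.of_dvd_nat (R.A.orderOf_dvd (le_normalizer y1))) (fun e => ?_) (by omega)).2)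
  simp only [List.nodup_cons, List.mem_cons, List.not_mem_nil, or_false, not_or] at hn
  exact (AltAut.isThreeCycle_tc hn.1.1 hn.1.2 hn.2.1).ne_one (y4 ▸ e)

theorem big (h : 12 ≤ n) : 16 ≤ (r w).support.card := by
  obtain ⟨m, hm⟩ := R.A.eight R.mem R.B.ord fun e => R.h4 (e ▸ (R.A.ker (le_normalizer R.A.mem)).1 R.A.rz)
  have := R.supp
  omega

theorem le : n ≤ 11 := by
  by_contra h
  have b1 := R.big (by omega)
  have b2 := R.symm.big (by omega)
  have iv := R.A.invol R.wN R.B.zz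
  obtain ⟨p, hp, -⟩ := StdInt.AltS.exists_blk (r w) [] (by rw [List.length_nil]; omega)
  obtain ⟨q, hq, h1⟩ := StdInt.AltS.exists_blk (r w) [p] (by simp; omega)
  obtain ⟨s, hs, h2⟩ := StdInt.AltS.exists_blk (r w) [p, q] (by simp; omega)
  have hn := StdInt.AltS.nd3 iv hp hq hs (h1 p (by simp)) (h2 p (by simp)) (h2 q (by simp))
  obtain ⟨y0, y1, y2, y3⟩ := R.A.lift_blk R.wN R.B.zz hn
  have d : IsDT (r y0) := ⟨q, r w q, s, r w s, by simp at hn ⊢; grind, y3⟩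
  obtain ⟨k, k1, k2⟩ := R.A.dt_pow y1 d
  have iK := pow_mem y1 k
  have iw : y0 ^ k ∈ Cx w := mem_Cx.2 (y2.pow_right k).symm
  have bl : StdInt.AltS.Bl (r w) (r (y0 ^ k)) := fun e => by
    rw [k1, y3, Perm.mul_apply]
    have := iv q
    have := iv s
    simp at hn
    grind
  rw [← k1] at d
  generalize y0 ^ k = i at *
  obtain ⟨p', q', s', hn', h3⟩ := root_perm (π := r' z) (g := r' i) (R.B.sq_one R.symm.wN R.A.zz)
    (by rw [← R.B.mul (R.h2 iw) (R.h2 iw), k2]) (by omega)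
  obtain ⟨y, y4, y5, -, y6⟩ := R.B.lift_tri R.symm.wN R.A.zz hn'
  have yN : y ∈ N K := R.h1 (mem_Cx.2 y5.symm)
  have cK : ⁅y, i⁆ ∈ K := ro_comm_r yN iK
  have cw : ⁅y, i⁆ ∈ Cx w := ro_comm_r (le_normalizer (R.B.cen y4)) iw
  have c2 : r (⁅y, i⁆ * ⁅y, i⁆) = 1 := by
    rw [R.A.mul (le_normalizer cK) (le_normalizer cK), R.A.comm yN (le_normalizer iK), commutatorElement_def, d.inv]
    exact ((bl.conj (R.A.commute yN R.wN (mem_Cx.1 (R.B.cen y4)))).mul iv bl).sq iv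
  have c4 : ⁅y, i⁆ ^ 4 ∈ O K := by
    rcases R.A.zen (mul_mem cK cK) c2 with e | e
    · convert mul_mem e e using 1; simp only [pow_succ, pow_zero, one_mul, mul_assoc]
    · convert mul_mem e e using 1
      rw [← pow_two (_ * z), (R.A.cz (mul_mem cK cK)).mul_pow, pow_two z, R.A.zz, mul_one]
      simp only [pow_succ, pow_zero, one_mul, mul_assoc]
  have h4 := R.fx (M := O K ⊓ Cx w) (le_inf inf_le_right (inf_le_left.trans ((opOf_le K).trans R.A.cen)))
    (le_normalizer_inf (inf_le_right.trans (R.h1.trans (normalizer_le_normalizer_opOf K)))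
      (inf_le_left.trans le_normalizer)) (fun e => not_mem_O R.B.ord e.1) ⟨c4, pow_mem cw 4⟩ (odd_of_mem_O c4)
  refine h3 ?_
  rw [← y6, ← R.B.comm (le_normalizer y4) (R.h2 iw), ← R.B.pow (R.h2 cw)]
  exact h4.2 p' (by simp at hn'; grind)

end Bt

end

/-- two involutions whose components are normal in the centralisers -/
theorem beta (hK : In n z K) (hJ : In n w J) (h1 : Cx z ≤ N K) (h2 : Cx w ≤ N J) (h3 : Commute z w)
    (h4 : w ∉ cm K) (h5 : z ∉ cm J) : w ∈ K ∧ n ≤ 11 := by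
  obtain ⟨r, A⟩ := hK.act
  obtain ⟨r', B⟩ := hJ.act
  have R : Bt z w K J r r' := ⟨A, B, h1, h2, h3, h4, h5⟩
  exact ⟨R.mem, R.le⟩

theorem Ctx.mid (c : Ctx n G) (h : In n z K) : Mid n z := by
  obtain ⟨w0, u0, J0, hw0, hu0, hJ0, h1, h2⟩ := c.alpha h
  have uq : ∀ w K, IsConj z w → In n w K → K = kap n w := fun w K hw hK =>
    le_antisymm (le_sSup hK) (sSup_le fun L hL => (c.rone hw0 hu0 hJ0 h1 h2 hw hL hK).le)
  have int : ∀ w, IsConj z w → In n w (kap n w) := fun w hw =>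
    (h.exists_of_isConj hw).elim fun J hJ => uq w J hw hJ ▸ hJ
  have nm : ∀ w, IsConj z w → Cx w ≤ N (kap n w) := fun w hw g hg =>
    mem_normalizer_iff_cj.2 (uq w _ hw ((int w hw).cj_of_mem hg))
  have bt : ∀ w u, IsConj z w → IsConj z u → Commute w u → u ∉ cm (kap n w) → u ∈ kap n w ∧ n ≤ 11 :=
    fun w u hw hu h3 h4 => beta (int w hw) (int u hu) (nm w hw) (nm u hu) h3 h4 fun e =>
      h4 (c.symm (int u hu) (int w hw) h3.symm e)
  rw [uq w0 J0 hw0 hJ0] at h2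
  obtain ⟨h3, h4⟩ := bt w0 u0 hw0 hu0 h1 h2
  refine ⟨c, int, uq, h4, fun w u hw hu h5 => ?_, fun w u hw hu h5 => or_iff_not_imp_left.2 fun e =>
    (bt w u hw hu h5 e).1⟩
  by_cases e : u = w
  · exact e ▸ hw
  obtain ⟨g, rfl⟩ := isConj_iff.1 (hw0.symm.trans hw)
  obtain ⟨r, A⟩ := (int _ hw).act
  obtain ⟨l, -, rfl⟩ := A.isConj (u := g * u0 * g⁻¹) (by omega) (by rw [← cj_kap]; exact conj_mem_cj.2 h3)
    ((ord_conj g u0).trans (int u0 hu0).ord) (fun f => h2 (by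
      rw [mul_left_cancel (mul_right_cancel f)]; exact (int w0 hw0).cm)) hu h5 e
  exact isConj_conj (isConj_conj hu0 g) l

end CfsgLib.Sol
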