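import Mathlib
import Cfsg.Agent.Lib.Sol.Bas
import Cfsg.Agent.Lib.Sol.Act2
import Cfsg.Agent.S0217

/-! The main configuration: adjacency and balance. -/

set_option autoImplicit false
set_option linter.unusedSectionVars false
set_option linter.style.haveILetI false
set_option linter.unusedVariables false

namespace CfsgLib.Sol

open Cfsg Subgroup CfsgLib.PComp CfsgLib.Tech CfsgLib.W2 Equiv Equiv.Perm
open CfsgLib.LBal hiding cj
open CfsgLib.StdInt (Two)
open CfsgLib.AltAut (tc)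
open scoped commutatorElement

universe u

variable {G : Type u} [Group G] [Finite G] {n : ℕ} {X Y J K L M P Q W : Subgroup G} {a b c t u v w x y z : G}


namespace Mid

variable (m : Mid n t)
include m

theorem norm (hz : IsConj t z) : Cx z ≤ N (kap n z) := by
  exact fun g hg => mem_normalizer_iff_cj.2 ((cj_kap g z).trans (by rw [mem_Cx'.1 hg]))

theorem symm (hz : IsConj t z) (hu : u ∈ kap n z) (h1 : orderOf u = 2) : z ∈ kap n u := by
  have hu' := m.inv z u hz hu h1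
  have hc : Commute u z := mem_Cx.1 ((m.int z hz).pc.le hu)
  refine (m.adj u z hu' hz hc).elim (fun e => ?_) id
  rw [(m.int z hz).eq hu h1 (m.ctx.symm (m.int u hu') (m.int z hz) hc e)]
  exact (m.int z hz).mem

/-- T1: commuting involutions of a component are adjacent -/
theorem tri (hz : IsConj t z) (hu : u ∈ kap n z) (h1 : orderOf u = 2) (hv : v ∈ kap n z) (h2 : orderOf v = 2)
    (h : Commute u v) : v ∈ kap n u := by
  have hu' := m.inv z u hz hu h1
  have hv' := m.inv z v hz hv h2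
  refine (m.adj u v hu' hv' h).elim (fun e => ?_) id
  by_cases f : u = v
  · exact f ▸ (m.int u hu').mem
  have h3 := m.symm hz hu h1
  rwa [(m.int v hv').eq (m.symm hz hv h2) (m.int z hz).ord (m.ctx.ky_le (m.int u hu') (m.int v hv') f h e
    (mem_ky h3 (Cx_comm.1 ((m.int z hz).pc.le hv)) (two_of_ord (m.int z hz).ord)))] at h3

/-- B0 -/
theorem bal0 (hb : IsConj t b) (ha : a ∈ kap n b) (h1 : orderOf a = 2) :
    O (Cx a) ⊓ Cx b ⊓ cm (kap n b) ≤ O (Cx b) := by
  have i := m.int b hb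
  have hn := m.norm hb
  generalize kap n b = K at *
  have oQ : O K ≤ Cx b ⊓ cm K := le_inf ((opOf_le K).trans i.pc.le) (opOf_le_cmod K)
  rw [inf_assoc]
  refine le_sup_left.trans ((le_opOf (N := O (Cx a) ⊓ (Cx b ⊓ cm K) ⊔ O K) (sup_le inf_le_right oQ) (fun q hq => ?_)
    (Odd.coprime_two_right ((((odd_card_opOf _).of_dvd_nat (card_dvd_of_le inf_le_left)).mul
      (odd_card_opOf K)).of_dvd_nat (Core.card_sup_dvd_of_le_normalizer (inf_le_right.trans (inf_le_left.trans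
        (hn.trans (normalizer_le_normalizer_opOf K)))))))).trans (opOf_le_opOf_of_le_normalizer inf_le_left
    (le_normalizer_inf le_normalizer (hn.trans (normalizer_le_normalizer_cmod K)))))
  obtain ⟨o, ho, e⟩ := fr (odd_card_opOf K) (sq_of_ord ((ord_conj q a).trans h1)) (sq_of_ord h1) (by
    have := mem_cmod.1 hq.2 a ha
    rwa [commutatorElement_def, inv_eq_of_orderOf_two h1] at this)
  have c1 : o⁻¹ * q ∈ Cx a := mem_Cx'.2 (by
    rw [show o⁻¹ * q * a * (o⁻¹ * q)⁻¹ = o⁻¹ * (q * a * q⁻¹) * o by group, ← e]; group)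
  have c2 := mul_mem (inv_mem (oQ ho)) hq
  have := mul_mem (le_normalizer (mem_sup_right (S := O (Cx a) ⊓ (Cx b ⊓ cm K)) ho))
    (normalizer_inf_normalizer_le_normalizer_sup _ _ ⟨le_normalizer_inf (U := Cx a ⊓ (Cx b ⊓ cm K))
      (inf_le_left.trans (le_normalizer_opOf _)) (inf_le_right.trans le_normalizer) ⟨c1, c2⟩,
      normalizer_le_normalizer_opOf K (hn c2.1)⟩)
  rwa [mul_inv_cancel_left] at this

/-- B1 -/
theorem bal1 (hb : IsConj t b) (ha : a ∈ kap n b) (h1 : orderOf a = 2) {r : G → Perm (Fin n)}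
    (A : Act n (kap n b) b r) {d : G} (hd : d ∈ O (Cx a) ⊓ Cx b) {p : Fin n} (hp : r a p ≠ p) : r d p = p :=
  by_contra fun hq => not_mem_O A.ord (A.nrm1 (M := O (Cx a) ⊓ Cx b) (le_normalizer ha) (sq_of_ord h1)
    (le_inf (inf_le_right.trans (m.norm hb)) (inf_le_left.trans (opOf_le _)))
    (le_normalizer_inf (inf_le_right.trans (le_normalizer_opOf _)) (inf_le_left.trans (A.cen.trans le_normalizer)))
    hd ((odd_of_mem_O hd.1).of_dvd_nat (A.orderOf_dvd (m.norm hb hd.2))) hp hq).1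

/-- B2 -/
theorem odd_sup (hz : IsConj t z) {E : Subgroup G} (hE : E ≤ kap n z) (h2 : ∀ e ∈ E, e * e = 1)
    (h16 : 16 ≤ Nat.card E) (ha : a ∈ E) (h3 : a ≠ 1) (hb : b ∈ E) (h4 : b ≠ 1) :
    Odd (Nat.card ↥(O (Cx a) ⊔ O (Cx b))) := by
  have hc : ∀ a ∈ E, E ≤ Cx a := fun a ha b hb =>
    mem_Cx.2 (Classif.comm_of_sq_eq_one (fun x hx => by rw [pow_two, h2 x hx]) hb ha)
  have hC : ∀ a ∈ E, centralizer (E : Set G) ≤ Cx a := fun a ha => centralizer_le (Set.singleton_subset_iff.2 ha)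
  have hE' : E ≤ centralizer (E : Set G) := fun a ha b hb => mem_Cx.1 (hc a ha hb)
  have hk : ∀ a ∈ E, a ≠ 1 → IsConj t a ∧ E ≤ kap n a := fun a ha a1 =>
    have o := ord_two (h2 a ha) a1
    have c := m.inv z a hz (hE ha) o
    ⟨c, fun b hb => by
      by_cases b1 : b = 1
      · exact b1 ▸ one_mem _
      · exact m.tri hz (hE ha) o (hE hb) (ord_two (h2 b hb) b1) (mem_Cx.1 (hc b hb ha))⟩
  let θ : G → Subgroup G := fun a => O (centralizer (E : Set G)) ⊔ O (Cx a)
  have nO : ∀ a ∈ E, O (centralizer (E : Set G)) ≤ N (O (Cx a)) := fun a ha =>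
    (opOf_le _).trans ((hC a ha).trans (le_normalizer_opOf _))
  have o : ∀ a ∈ E, Odd (Nat.card (θ a)) := fun a ha =>
    ((odd_card_opOf _).mul (odd_card_opOf _)).of_dvd_nat (Core.card_sup_dvd_of_le_normalizer (nO a ha))
  have key : ∀ a ∈ E, a ≠ 1 → ∀ b ∈ E, b ≠ 1 → O (Cx a) ⊓ Cx b ≤ θ b := fun a ha a1 b hb b1 => by
    by_cases e : a = b
    · exact e ▸ inf_le_left.trans le_sup_right
    have nD : E ≤ N (O (Cx a) ⊓ Cx b) :=
      le_normalizer_inf ((hc a ha).trans (le_normalizer_opOf _)) ((hc b hb).trans le_normalizer)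
    have oD : Odd (Nat.card ↥(O (Cx a) ⊓ Cx b)) := (odd_card_opOf _).of_dvd_nat (card_dvd_of_le inf_le_left)
    obtain ⟨c, hb'⟩ := hk b hb b1
    obtain ⟨r, A⟩ := (m.int b c).act
    have oa := ord_two (h2 a ha) a1
    rw [← Coprime.commutator_sup_centralizer nD (coprime_card_of_isPGroup (p := 2)
      (isPGroup_iff_mem.2 fun x hx => StdInt.two_of_sq (h2 x hx)) oD.coprime_two_right)
      (Or.inr (FT.odd_subgroup_solvable oD))]
    refine sup_le (le_sup_of_le_right (le_trans (commutator_le.2 fun d hd x hx => mem_inf.2 ⟨?_, ?_⟩) (m.bal0 c (hb' ha) oa)))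
      (le_sup_of_le_left (le_trans (le_inf inf_le_right (inf_le_left.trans inf_le_left)) (inf_opOf_le (hC a ha))))
    · exact Coprime.commutator_le_of_le_normalizer nD (commutator_mem_commutator hd hx)
    · have dN := m.norm c hd.2
      have xN := le_normalizer (hb' hx)
      refine (A.ker (mul_mem (mul_mem (mul_mem dN xN) (inv_mem dN)) (inv_mem xN))).1 ((A.comm dN xN).trans
        (commutatorElement_eq_one_iff_commute.2 (Perm.Disjoint.commute fun p => or_iff_not_imp_right.2 fun hp =>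
          m.bal1 c (hb' ha) oa A hd (A.supp_eq m.le hb' h2 h16 ha (A.r_ne (hb' ha) oa e) hx hp))))
  have h := (Agent.S0217.result (p := 2) E (fun a ha b hb => mem_Cx.1 (hc b hb ha))
    (fun a ha => by rw [pow_two, h2 a ha]) (by omega) θ
    (fun a ha _ => sup_le ((opOf_le _).trans (hC a ha)) (opOf_le _))
    (fun a ha _ => (o a ha).not_two_dvd_nat) (fun a ha _ b hb x hx => conj_mem_of_mem_normalizer
      (normalizer_inf_normalizer_le_normalizer_sup _ _
        ⟨le_normalizer_opOf _ (hE' hb), le_normalizer_opOf _ (hc a ha hb)⟩) hx)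
    (fun a ha _ => FT.odd_subgroup_solvable (o a ha)) fun a ha a1 b hb b1 x hx => by
      have h5 : x ∈ (θ a : Set G) := hx.1
      rw [coe_mul_of_left_le_normalizer_right _ _ (nO a ha)] at h5
      obtain ⟨c, h6, d, h7, rfl⟩ := h5
      refine mul_mem (mem_sup_left h6) (key a ha a1 b hb b1 ⟨h7, ?_⟩)
      simpa using mul_mem (inv_mem (hC b hb (opOf_le _ h6))) hx.2).1
  have k : ∀ a (ha : a ∈ E ∧ a ≠ 1), O (Cx a) ≤ ⨆ a : {a : G // a ∈ E ∧ a ≠ 1}, θ a := fun a ha =>
    le_iSup_of_le ⟨a, ha⟩ le_sup_right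
  exact (Nat.odd_iff.2 (by omega)).of_dvd_nat (card_dvd_of_le (sup_le (k a ⟨ha, h3⟩) (k b ⟨hb, h4⟩)))

/-- balance for adjacent involutions -/
theorem bal (hb : IsConj t b) (ha : a ∈ kap n b) (h1 : orderOf a = 2) : O (Cx a) ⊓ Cx b ≤ O (Cx b) := by
  intro d hd
  by_cases e : a = b
  · exact e ▸ hd.1
  obtain ⟨r, A⟩ := (m.int b hb).act
  by_cases h4 : r d = 1
  · exact m.bal0 hb ha h1 ⟨hd, (A.ker (m.norm hb hd.2)).1 h4⟩
  obtain ⟨k, hk, l, hl, h5, h6⟩ := A.eleven m.le ha h1 e (m.norm hb hd.2) (odd_of_mem_O hd.1)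
    (fun p hp => m.bal1 hb ha h1 A hd hp) h4
  have a1 := (ord_conj k a).trans h1
  have a2 := (ord_conj l a).trans h1
  have m1 := mul_mem (mul_mem hk ha) (inv_mem hk)
  have c1 := m.inv b _ hb m1 a1
  obtain ⟨r', B⟩ := (m.int _ c1).act
  obtain ⟨E, e1, e2, e3, e4, e5⟩ := B.e16 (m.le.trans (by norm_num))
    (m.tri hb m1 a1 (mul_mem (mul_mem hl ha) (inv_mem hl)) a2 h5) a2
  have b4 := m.odd_sup c1 e1 e2 e3 e4 (ne_one_of_ord a1) e5 (ne_one_of_ord a2)
  rw [← cj_Cx, ← cj_Cx, ← cj_O, ← cj_O] at b4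
  have b5 := mem_sup_left (T := cj l (O (Cx a))) ((conj_mem_cj (g := k)).2 hd.1)
  have b6 := mem_sup_right (S := cj k (O (Cx a))) ((conj_mem_cj (g := l)).2 hd.1)
  exact absurd (StdInt.odd_of_mem b4 (mul_mem (mul_mem (mul_mem b5 b6) b5) (inv_mem b6))) h6

end Mid

end CfsgLib.Sol
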