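import Mathlib
import Cfsg.Agent.Lib.Sol.MidA

/-! The subgroups `LL n w`. -/

set_option autoImplicit false
set_option linter.unusedSectionVars false
set_option linter.style.haveILetI false

namespace CfsgLib.Sol

open Cfsg Subgroup CfsgLib.PComp CfsgLib.Tech CfsgLib.W2 Equiv Equiv.Perm
open CfsgLib.LBal hiding cj
open CfsgLib.StdInt (Two)
open CfsgLib.AltAut (tc)
open scoped commutatorElement

universe u

variable {G : Type u} [Group G] [Finite G] {n : ℕ} {X Y J K L M P Q W : Subgroup G} {a b c t u v w x y z : G}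


namespace Mid

theorem kap_le_LL (m : Mid n t) (hz : IsConj t z) : kap n z ≤ LL n z :=
  le_LL (m.int z hz).mem (m.int z hz).ord

theorem mem_LL (m : Mid n t) (hz : IsConj t z) : z ∈ LL n z := m.kap_le_LL hz (m.int z hz).mem

theorem enda_inv (m : Mid n t) (hz : IsConj t z) :
    ∃ u ∈ kap n z, orderOf u = 2 ∧ u ≠ z ∧ Commute u z :=
  let ⟨_, A⟩ := (m.int z hz).act
  let ⟨u, h1, h2, h3⟩ := A.exists_inv
  ⟨u, h1, h2, h3, mem_Cx.1 (A.cen h1)⟩

variable (m : Mid n t) (hl : LL n t ≠ ⊤)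
include m hl

theorem ll_ne' (hz : IsConj t z) : LL n z ≠ ⊤ := by
  obtain ⟨g, rfl⟩ := isConj_iff.1 hz
  rw [← cj_LL]
  exact fun e => hl (cj_injective g (e.trans (cj_top g).symm))

/-- the pump-up in a proper overgroup contains `LL n z` and is proper -/
theorem up (hz : IsConj t z) (hX : X ≠ ⊤) (h : LL n z ≤ X) :
    ∃ L, PC 2 L X ∧ LL n z ≤ L ∧ Pu n z (kap n z) L ∧ TyY n z (kap n z) L := by
  have I := m.int z hz
  obtain ⟨L, hL, p⟩ := m.ctx.up hX (I.intr_of_le ((m.kap_le_LL hz).trans h))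
  have h1 : LL n z ≤ L := LL_le fun u hu u2 => by
    have J := m.int u (m.inv z u hz hu u2)
    by_cases e : u = z
    · exact e ▸ p.le
    obtain ⟨L', hL', p'⟩ := m.ctx.up hX (J.intr_of_le ((le_LL hu u2).trans h))
    refine (by_contra fun ne => e ?_ : L' = L) ▸ p'.le
    have c := PC_ne hL' hL ne
    exact (p'.tyA hL'.pqs u2 J.ty (c (p.le hu))).2.eq (p'.le J.mem) (c (p.le hu)) u2
      (p'.le (m.symm hz hu u2)) (c (p.le I.mem)) I.ord (mem_Cx.1 (I.pc.le hu))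
  refine ⟨L, hL, h1, p, p.alt.resolve_left fun c => ?_⟩
  obtain ⟨u, hu, u2, ne, hc⟩ := m.enda_inv hz
  have J := m.int u (m.inv z u hz hu u2)
  rcases (m.ctx.pu' hX (J.intr_of_le ((le_LL hu u2).trans h)) hL ((le_LL hu u2).trans h1)).alt with e | e
  · exact ne ((p.tyA hL.pqs I.ord I.ty c).2.eq (p.le hu) e u2 (p.le I.mem) c I.ord hc)
  · exact not_mem_O I.ord (e.zen ⟨p.le I.mem, c⟩)

theorem ll_pu (hz : IsConj t z) :
    IsPQs 2 (LL n z) ∧ Pu n z (kap n z) (LL n z) ∧ TyY n z (kap n z) (LL n z) := by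
  obtain ⟨L, hL, h1, h2, h3⟩ := m.up hl hz (m.ll_ne' hl hz) le_rfl
  obtain rfl := le_antisymm hL.le h1
  exact ⟨hL.pqs, h2, h3⟩

theorem ll_eq (hz : IsConj t z) (hv : v ∈ LL n z) (h1 : orderOf v = 2) : IsConj t v ∧ LL n v = LL n z := by
  obtain ⟨l, hl', rfl⟩ := (m.ll_pu hl hz).2.2.one v hv h1
  exact ⟨isConj_conj hz l, by rw [← cj_LL, cj_eq_of_mem hl']⟩

theorem cx_le (hz : IsConj t z) (hv : v ∈ LL n z) (h1 : orderOf v = 2) : Cx v ≤ N (LL n z) :=
  fun g hg => mem_normalizer_iff_cj.2 (by rw [← (m.ll_eq hl hz hv h1).2, cj_LL, mem_Cx'.1 hg])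

theorem odd_le (hz : IsConj t z) (hW : Odd (Nat.card W)) (ha : a ∈ LL n z) (hb : b ∈ LL n z) (h1 : orderOf a = 2)
    (h2 : orderOf b = 2) (h3 : a ≠ b) (h4 : Commute a b) (h5 : a ∈ N W) (h6 : b ∈ N W) : W ≤ N (LL n z) :=
  le_of_four hW h1 h2 h3 h4 h5 h6 (inf_le_right.trans (m.cx_le hl hz ha h1))
    (inf_le_right.trans (m.cx_le hl hz hb h2)) (inf_le_right.trans (m.cx_le hl hz (mul_mem ha hb)
      (Invol.orderOf_mul_of_commute (sq_of_ord h1) (sq_of_ord h2) h3 h4)))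

/-- (C) -/
theorem ll_pc (hz : IsConj t z) (hX : X ≠ ⊤) (h : LL n z ≤ X) : PC 2 (LL n z) X := by
  obtain ⟨L, hL, h1, -, h3⟩ := m.up hl hz hX h
  obtain ⟨u, hu, u2, ne, hc⟩ := m.enda_inv hz
  have hu' := m.kap_le_LL hz hu
  have hN : L ≤ N (LL n z) := h3.gen _ (m.odd_le hl hz (odd_card_opOf L) hu' (m.mem_LL hz) u2
      (m.int z hz).ord ne hc (le_normalizer_opOf L (h1 hu')) (le_normalizer_opOf L (h1 (m.mem_LL hz))))
    fun v hv v2 => inf_le_right.trans (m.cx_le hl hz (m.kap_le_LL hz hv) v2)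
  rcases hL.pqs.eq_or_commutator_le (SubnIn.step h1 hN (SubnIn.refl L)) with e | e
  · exact e ▸ hL
  · rw [commutator_comm] at e
    exact absurd (h3.zen ⟨h1 (m.mem_LL hz), le_cmod_iff.2 e (m.mem_LL hz)⟩)
      (not_mem_O (m.int z hz).ord)

/-- K1 -/
theorem k1 (hz : IsConj t z) (hw : IsConj t w) (h : Commute z w) : LL n z ≤ N (LL n w) := by
  have I := m.int z hz
  have J := m.int w hw
  by_cases ne : z = w
  · exact ne ▸ le_normalizer
  rcases m.adj z w hz hw h with c | c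
  swap
  · exact (m.ll_eq hl hz (m.kap_le_LL hz c) J.ord).2 ▸ le_normalizer
  obtain ⟨-, p, y⟩ := m.ll_pu hl hz
  have zN := (m.cx_le hl hz (m.mem_LL hz) I.ord).trans (normalizer_le_normalizer_opOf (p := 2) _)
  have hO : O (LL n z) ≤ N (LL n w) := by
    obtain ⟨_, A⟩ := (J.ky I.ord h.symm (m.ctx.symm I J h c)).act
    obtain ⟨u, hu, u2, ne'⟩ := A.exists_inv
    exact m.odd_le hl hw (odd_card_opOf _) (m.kap_le_LL hw (ky_le _ _ hu)) (m.mem_LL hw) u2 J.ord ne'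
      (mem_Cx.1 (A.cen hu)) (zN (ky_le' _ _ hu)) (zN (mem_Cx.2 h.symm))
  refine y.gen _ hO fun v hv v2 g hg => ?_
  obtain ⟨o, ho, e⟩ := inv2 (odd_card_opOf (kap n z)) (two_iff.1 (two_of_ord J.ord))
    (two_iff.1 (two_of_ord v2))
    (zpowers_le.2 (normalizer_le_normalizer_opOf _ (cmod_le_normalizer _ c)))
    (zpowers_le.2 (le_normalizer_opOf _ hv))
    fun a ha b hb => mem_cmod.1 (zpowers_le.2 c ha) b (zpowers_le.2 hv hb)
  have e := e w (mem_zpowers w) v (mem_zpowers v)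
  have ho' := opOf_le _ ho
  have hv' : o * v * o⁻¹ ∈ kap n z := mul_mem (mul_mem ho' hv) (inv_mem ho')
  have v2' := (ord_conj o v).trans v2
  obtain ⟨hD, eL⟩ := m.ll_eq hl hz (m.kap_le_LL hz hv') v2'
  have V := m.int _ hD
  have c' := m.ctx.symm J V e (m.ctx.ky_le I J ne h c (mem_ky hv' (mem_Cx.2 e.symm) (two_of_ord v2')))
  obtain ⟨-, p', -⟩ := m.ll_pu hl hD
  rw [eL] at p'
  have := (p'.ct.trans (sup_le ((ky_cov V.pc.pqs J.ord c').trans (sup_le ((ky_le' _ _).trans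
    (m.cx_le hl hw (m.mem_LL hw) J.ord)) (p'.core.trans hO))) hO))
    (mem_inf.2 ⟨mul_mem (mul_mem (m.kap_le_LL hz ho') hg.1) (inv_mem (m.kap_le_LL hz ho')),
      conj_mem_Cx.2 hg.2⟩)
  have oN := hO (p.core ho)
  exact (Subgroup.mul_mem_cancel_left _ oN).1 ((Subgroup.mul_mem_cancel_right _ (inv_mem oN)).1 this)

end Mid

end CfsgLib.Sol
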