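import Mathlib
import Cfsg.Agent.Lib.Sol.EndA

/-! The subgroup `LL n z` is not proper. -/

set_option autoImplicit false
set_option linter.unusedSectionVars false
set_option linter.style.haveILetI false

namespace CfsgLib.Sol

open Cfsg Subgroup CfsgLib.PComp CfsgLib.Tech CfsgLib.W2 Equiv Equiv.Perm
open CfsgLib.LBal hiding cj
open CfsgLib.StdInt (Two)
open CfsgLib.AltAut (tc)
open scoped commutatorElement

universe u

variable {G : Type u} [Group G] [Finite G] {n : ℕ} {X Y J K L M P Q W : Subgroup G} {a b c t u v w x y z : G}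


/-- the class of `t` -/
def Cl (n : ℕ) (t w : G) : Prop := IsConj t w ∧ LL n w ≤ N (LL n t)

/-- the join of the `LL n w` over the class of `t` -/
def EE (n : ℕ) (t : G) : Subgroup G := sSup {X | ∃ w, Cl n t w ∧ X = LL n w}

omit [Finite G] in
theorem Cl.le (h : Cl n t w) : LL n w ≤ EE n t := le_sSup ⟨w, h, rfl⟩

omit [Finite G] in
theorem EE_le (h : ∀ w, Cl n t w → LL n w ≤ X) : EE n t ≤ X := sSup_le fun _ ⟨w, hw, e⟩ => e ▸ h w hw

omit [Finite G] in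
theorem cl_self (n : ℕ) (t : G) : Cl n t t := ⟨IsConj.refl t, le_normalizer⟩

omit [Finite G] in
theorem eb_zpowers {p : G → Prop} (h : x * x = 1) (h1 : p 1) (h2 : p x) : ∀ y ∈ zpowers x, p y := fun y hy => by
  obtain ⟨k, rfl⟩ := mem_zpowers_iff.1 hy
  rcases Int.even_or_odd' k with ⟨m, rfl | rfl⟩
  · rwa [zpow_mul, zpow_two, h, one_zpow]
  · rwa [zpow_add, zpow_mul, zpow_two, h, one_zpow, one_mul, zpow_one]

namespace Mid

variable (m : Mid n t) (hl : LL n t ≠ ⊤)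
include m hl

omit hl in
theorem kap_le (hz : IsConj t z) : kap n z ≤ LL n z := le_LL (m.int z hz).mem (m.int z hz).ord

omit hl in
theorem mem_ll (hz : IsConj t z) : z ∈ LL n z := m.kap_le hz (m.int z hz).mem

theorem N_ll_ne (hz : IsConj t z) : N (LL n z) ≠ ⊤ :=
  m.ctx.N_ne (fun e => ne_one_of_ord (m.int z hz).ord (e.le (m.mem_ll hz))) (m.ll_ne' hl hz)

theorem rel_of (hz : IsConj t z) (hw : IsConj t w) (hu : IsConj t u) (h1 : LL n z ≤ N (LL n u))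
    (h2 : LL n w ≤ N (LL n u)) : LL n z ≤ N (LL n w) :=
  (m.ll_pc hl hw (m.N_ll_ne hl hu) h2).le_normalizer (m.ll_pc hl hz (m.N_ll_ne hl hu) h1)

theorem M_ne : N (EE n t) ≠ ⊤ :=
  m.ctx.N_ne (fun e => ne_one_of_ord (m.int t (IsConj.refl t)).ord (e.le ((cl_self n t).le (m.mem_ll (IsConj.refl t)))))
    fun e => m.N_ll_ne hl (IsConj.refl t) (top_le_iff.1 (e.ge.trans (EE_le fun _ h => h.2)))

theorem mem_M (hw : Cl n t w) {g : G} (h : Cl n t (g * w * g⁻¹)) : g ∈ N (EE n t) := by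
  refine mem_normalizer_of_cj_le (map_le_iff_le_comap.2 (EE_le fun v hv => map_le_iff_le_comap.1 ?_))
  have h1 := cj_mono g (m.rel_of hl hv.1 hw.1 (IsConj.refl t) hv.2 hw.2)
  rw [cj_normalizer, cj_LL, cj_LL] at h1
  refine (cj_LL g v).le.trans (Cl.le ⟨isConj_conj hv.1 g, m.rel_of hl (isConj_conj hv.1 g) (IsConj.refl t) h.1 h1 ?_⟩)
  exact m.rel_of hl (IsConj.refl t) h.1 (IsConj.refl t) le_normalizer h.2

theorem N_le_M (hw : Cl n t w) : N (LL n w) ≤ N (EE n t) := fun g hg =>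
  m.mem_M hl hw ⟨isConj_conj hw.1 g, by rw [← cj_LL, mem_normalizer_iff_cj.1 hg]; exact hw.2⟩

theorem pc_M (hw : Cl n t w) : PC 2 (LL n w) (N (EE n t)) := m.ll_pc hl hw.1 (m.M_ne hl) (hw.le.trans le_normalizer)

theorem cl_of_mem (hw : Cl n t w) (hv : v ∈ LL n w) (h1 : orderOf v = 2) : Cl n t v :=
  ⟨(m.ll_eq hl hw.1 hv h1).1, (m.ll_eq hl hw.1 hv h1).2 ▸ hw.2⟩

omit hl in
theorem even_ll (hz : IsConj t z) : Even (Nat.card (LL n z)) := even_card_of_involution (m.mem_ll hz) (m.int z hz).ord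

/-- K2 -/
theorem k2 (hb : IsConj t b) (h : b ∈ N (EE n t)) : Cl n t b := by
  have ht := IsConj.refl t
  have hB := m.int b hb
  have hbN : b ∈ N (LL n t) := by_contra fun hn => by
    obtain ⟨g, hg, e⟩ := pair (m.pc_M hl (cl_self n t)) hB.ord (le_normalizer h) hn
      (isPGroup_two_zpowers (sq_of_ord (m.int t ht).ord)) (zpowers_le.2 (m.mem_ll ht))
    have hm : g * t * g⁻¹ ∈ cj g (zpowers t) := conj_mem_cj.2 (mem_zpowers t)
    have hc := e _ hm _ hm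
    have hu : g * t * g⁻¹ ∈ LL n t := mul_mem (mul_mem hg (m.mem_ll ht)) (inv_mem hg)
    have cu := isConj_conj ht g
    generalize g * t * g⁻¹ = u at hc hu cu
    have hU := m.int u cu
    have e1 := (m.ll_eq hl ht hu hU.ord).2
    have h2 : b * u * b⁻¹ ∈ kap n u := (m.adj u _ cu (isConj_conj cu b) hc).elim
      (fun e2 => (m.ctx.sw1 hU hB hc e2).symm ▸ hU.mem) id
    have e2 := (m.ll_eq hl cu (m.kap_le cu h2) ((ord_conj b u).trans hU.ord)).2
    rw [← cj_LL, e1] at e2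
    exact hn (mem_normalizer_iff_cj.2 e2)
  obtain ⟨v, hv, h1, h2⟩ := exists_inv_comm (isPGroup_two_zpowers (sq_of_ord hB.ord)) (zpowers_le.2 hbN) (m.even_ll ht)
  obtain ⟨cv, e⟩ := m.ll_eq hl ht hv h1
  exact ⟨hb, e ▸ m.k1 hl hb cv (h2 b (mem_zpowers b))⟩

/-- K2' -/
theorem k2' (hw : Cl n t w) {g : G} (h : g * w * g⁻¹ ∈ N (EE n t)) : g ∈ N (EE n t) :=
  m.mem_M hl hw (m.k2 hl (isConj_conj hw.1 g) h)

theorem exists_z1 {j : G} (hj : j ∈ EE n t) (h1 : orderOf j = 2) :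
    ∃ v ∈ LL n t, orderOf v = 2 ∧ Commute j v ∧ (j ∈ cm (LL n t) ∨ j * v ∈ cm (LL n t)) := by
  have ht := IsConj.refl t
  have jj := sq_of_ord h1
  have hjN : zpowers j ≤ N (LL n t) := zpowers_le.2 (EE_le (fun _ h => h.2) hj)
  by_cases hc : j ∈ cm (LL n t)
  · obtain ⟨v, hv, h2, h3⟩ := exists_inv_comm (isPGroup_two_zpowers jj) hjN (m.even_ll ht)
    exact ⟨v, hv, h2, h3 j (mem_zpowers j), .inl hc⟩
  have hE : EE n t ≤ LL n t ⊔ cm (LL n t) := EE_le fun w hw =>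
    ((m.pc_M hl (cl_self n t)).eq_or_le_cmod (m.pc_M hl hw)).elim (fun e => e.ge.trans le_sup_left)
      fun e => e.trans le_sup_right
  obtain ⟨l, hl', q, hq, e⟩ := (Core.mem_sup_of_le_normalizer_left (cmod_le_normalizer (p := 2) _)).1 (hE hj)
  have hO := opOf_le_cmod (p := 2) (LL n t)
  obtain ⟨y, hy, c1, o1⟩ := lift2 (isPGroup_two_zpowers jj) hjN hl' (eb_zpowers jj (by simp) (by
    rw [← e, show ⁅l * q, l⁆ = l * ⁅q, l⁆ * l⁻¹ by simp only [commutatorElement_def]; group]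
    exact conj_mem_of_mem_normalizer (le_normalizer_opOf _ hl') (mem_cmod.1 hq l hl')))
  have c2 := c1 j (mem_zpowers j)
  have h2 : j * y ∈ cm (LL n t) := by
    rw [show j * y = q⁻¹ * (y⁻¹ * l)⁻¹ by rw [← inv_eq_of_mul_eq_one_right jj, ← e]; group]
    exact mul_mem (inv_mem hq) (inv_mem (hO o1))
  have h3 : y * y ∈ O (LL n t) := (m.ll_pu hl ht).2.2.zen ⟨mul_mem hy hy, by
    have := mul_mem h2 h2
    rwa [c2.symm.mul_mul_mul_comm, jj, one_mul] at this⟩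
  obtain ⟨k, hk⟩ := odd_of_mem_O h3
  have e1 : y ^ (2 * k + 1) = y * (y * y) ^ k := by rw [← pow_two, ← pow_mul, pow_succ']
  have h4 : j * y ^ (2 * k + 1) ∈ cm (LL n t) := by
    rw [e1, ← mul_assoc]; exact mul_mem h2 (hO (pow_mem h3 k))
  refine ⟨y ^ (2 * k + 1), pow_mem hy _, ord_two ?_ fun e2 => hc (by simpa [e2] using h4), c2.pow_right _, .inr h4⟩
  rw [← (Commute.refl y).mul_pow, ← hk, pow_orderOf_eq_one]

/-- K3 -/
theorem k3 {j : G} (hj : j ∈ EE n t) (h1 : orderOf j = 2) : Cx j ≤ N (EE n t) := by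
  have ht := IsConj.refl t
  obtain ⟨v, hv, h2, h3, h4⟩ := m.exists_z1 hl hj h1
  obtain ⟨cv, e⟩ := m.ll_eq hl ht hv h2
  have hV := m.int v cv
  have hKL : kap n v ≤ LL n t := e ▸ m.kap_le cv
  have hC := m.cx_le hl ht hv h2
  have hM := m.N_le_M hl (cl_self n t)
  have clv := m.cl_of_mem hl (cl_self n t) hv h2
  have key : ∀ x ∈ Cx v, x ∈ cm (LL n t) → x ∈ cm (kap n v) := fun x hx hc => mem_cmod.2 fun k hk => by
    have h5 : ⁅x, k⁆ ∈ kap n v := mul_mem (conj_mem_of_mem_normalizer (m.norm cv hx) hk) (inv_mem hk)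
    rw [hV.pc.opOf_eq]
    exact ⟨h5, le_opOf (N := O (LL n t) ⊓ Cx v) inf_le_right
      (le_normalizer_inf (hC.trans (normalizer_le_normalizer_opOf _)) le_normalizer)
      (coprime_card_of_le_opOf inf_le_left) ⟨mem_cmod.1 hc k (hKL hk), hV.pc.le h5⟩⟩
  have hjc : j ∈ cm (kap n v) := h4.elim (key j (mem_Cx.2 h3)) fun h5 =>
    (mul_mem_cancel_right hV.cm).1 (key _ (mem_Cx.2 (h3.mul_left (Commute.refl v))) h5)
  have hI := hV.ky h1 h3.symm hjc
  have hK' := (ky_le (p := 2) (kap n v) j).trans hKL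
  obtain ⟨L, hL, hP⟩ := m.ctx.up (m.ctx.Cx_ne hV (ne_one_of_ord h1)) hI
  obtain ⟨r, A⟩ := hI.act
  obtain ⟨u, hu, u1, u2⟩ := A.exists_inv
  have hW := le_normalizer_opOf (p := 2) (Cx j)
  have hO : O (Cx j) ≤ N (LL n t) := m.odd_le hl ht (odd_card_opOf _) (hK' hu) hv u1 h2 u2 (mem_Cx.1 (A.cen hu))
    (hW (ky_le' _ _ hu)) (hW (mem_Cx.2 h3.symm))
  have hLN : L ≤ N (LL n t) := hP.alt.elim
    (fun e1 => (hP.tyA hL.pqs h2 hI.ty e1).1.trans (sup_le (hK'.trans le_normalizer) (hL.opOf_le.trans hO)))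
    fun e1 => e1.gen _ (hL.opOf_le.trans hO) fun x hx x1 => inf_le_right.trans (m.cx_le hl ht (hK' hx) x1)
  have hvL := hP.le hI.mem
  intro g hg
  rcases hL.eq_or_le_cmod (hL.cj_mem hg) with e1 | e1
  · exact m.k2' hl clv (hM (hLN (e1 ▸ conj_mem_cj.2 hvL)))
  · have hq : g * v * g⁻¹ ∈ cj g L := conj_mem_cj.2 hvL
    obtain ⟨o, ho, hc⟩ := inv2 (odd_card_opOf (Cx j)) (isPGroup_two_zpowers (sq_of_ord h2))
      (isPGroup_two_zpowers (sq_of_ord ((ord_conj g v).trans h2))) (zpowers_le.2 (hW (hL.le hvL)))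
      (zpowers_le.2 (hW ((hL.cj_mem hg).le hq))) fun p hp q hq' => by
        rw [← commutatorElement_inv]
        exact inv_mem (hL.opOf_le (mem_cmod.1 (zpowers_le.2 (e1 hq) hq') p (zpowers_le.2 hvL hp)))
    refine (mul_mem_cancel_left (hM (hO ho))).1 (m.k2' hl clv (hM (hC (mem_Cx.2 ?_))))
    rw [show o * g * v * (o * g)⁻¹ = o * (g * v * g⁻¹) * o⁻¹ by group]
    exact (hc v (mem_zpowers v) _ (mem_zpowers _)).symm

theorem k3' {g i : G} (hi : i ∈ cj g (EE n t)) (h1 : orderOf i = 2) (hx : x ∈ Cx i) : g⁻¹ * x * g ∈ N (EE n t) := by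
  have := conj_mem_Cx (g := g⁻¹).2 hx
  rw [inv_inv] at this
  exact m.k3 hl (mem_cj.1 hi) (by simpa using (ord_conj g⁻¹ i).trans h1) this

/-- (*), first part -/
theorem st1 {g i : G} (hg : g ∉ N (EE n t)) (hi : i ∈ cj g (EE n t)) (h1 : orderOf i = 2) : i ∉ N (LL n t) := fun e => by
  obtain ⟨v, hv, h2, h3⟩ := exists_inv_comm (isPGroup_two_zpowers (sq_of_ord h1)) (zpowers_le.2 e)
    (m.even_ll (IsConj.refl t))
  refine hg (inv_mem_iff.1 (m.k2' hl (m.cl_of_mem hl (cl_self n t) hv h2) ?_))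
  rw [inv_inv]
  exact m.k3' hl hi h1 (mem_Cx.2 (h3 i (mem_zpowers i)).symm)

/-- (*), second part -/
theorem st2 {g i : G} (hg : g ∉ N (EE n t)) (hi : i ∈ cj g (EE n t)) (h1 : orderOf i = 2) (h2 : i ∈ N (EE n t)) :
    ∃ a ∈ Cx i, ∃ u ∈ LL n t, orderOf u = 2 ∧ a * a = u * (i * u * i⁻¹) ∧ orderOf (a * a) = 2 ∧ a * a ∈ EE n t := by
  have ht := IsConj.refl t
  have hT := m.int t ht
  have hn := m.st1 hl hg hi h1
  obtain ⟨r, A⟩ := hT.act
  obtain ⟨T, h3, h4, o, -, k, hk, j, -, e, -⟩ := A.qc (one_mem _) (one_mul 1)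
  have hkL := m.kap_le ht (h4 hk).1
  obtain ⟨s, hs, hc⟩ := pair (m.pc_M hl (cl_self n t)) h1 (le_normalizer h2) hn (isPGroup_zpowers_of_mem h3 hk)
    (zpowers_le.2 hkL)
  have hm : s * k * s⁻¹ ∈ cj s (zpowers k) := conj_mem_cj.2 (mem_zpowers k)
  have c1 := hc _ hm _ hm
  have hu : s * t * s⁻¹ ∈ LL n t := mul_mem (mul_mem hs (m.mem_ll ht)) (inv_mem hs)
  have u1 := (ord_conj s t).trans hT.ord
  have e1 : s * k * s⁻¹ * (s * k * s⁻¹) = s * t * s⁻¹ := by rw [← e]; group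
  generalize s * k * s⁻¹ = k' at c1 e1
  generalize s * t * s⁻¹ = u at hu u1 e1
  have e2 : i * k' * i⁻¹ * (i * k' * i⁻¹) = i * u * i⁻¹ := by rw [← e1]; group
  have e3 : k' * (i * k' * i⁻¹) * (k' * (i * k' * i⁻¹)) = u * (i * u * i⁻¹) := by
    rw [c1.symm.mul_mul_mul_comm, e1, e2]
  have c2 : Commute u (i * u * i⁻¹) := by
    rw [← e2, ← e1]
    exact (c1.mul_left c1).mul_right (c1.mul_left c1)
  refine ⟨k' * (i * k' * i⁻¹), Cx_comm.1 (mem_Cx'.2 ?_), u, hu, u1, e3, ?_, ?_⟩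
  · rw [show i * (k' * (i * k' * i⁻¹)) * i⁻¹ = i * k' * i⁻¹ * ((i * i) * k' * (i * i)⁻¹) by group, sq_of_ord h1,
      one_mul, inv_one, mul_one, c1.eq]
  · rw [e3]
    refine ord_two ?_ fun e4 => hn (m.cx_le hl ht hu u1 (mem_Cx'.2 ?_))
    · rw [c2.symm.mul_mul_mul_comm, sq_of_ord u1, sq_of_ord ((ord_conj i u).trans u1), one_mul]
    · rw [eq_inv_of_mul_eq_one_right e4, inv_eq_of_mul_eq_one_right (sq_of_ord u1)]
  · exact e3 ▸ mul_mem ((cl_self n t).le hu) (conj_mem_of_mem_normalizer h2 ((cl_self n t).le hu))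

/-- K4 -/
theorem k4 {j g : G} (hj : j ∈ EE n t) (h1 : orderOf j = 2) (h : g * j * g⁻¹ ∈ N (EE n t)) : g ∈ N (EE n t) := by
  by_contra hg
  have hi : g * j * g⁻¹ ∈ cj g (EE n t) := conj_mem_cj.2 hj
  have i1 := (ord_conj g j).trans h1
  generalize g * j * g⁻¹ = i at h hi i1
  obtain ⟨b, hb, u, hu, u1, e, v1, hv⟩ := m.st2 hl hg hi i1 h
  have hvi := mul_mem hb hb
  generalize b * b = v at e v1 hv hvi
  obtain ⟨a, ha, -, -, -, -, a1, a2⟩ := m.st2 hl (g := g⁻¹) (fun e => hg (inv_mem_iff.1 e)) (conj_mem_cj.2 hv)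
    ((ord_conj _ v).trans v1) (by rw [inv_inv]; exact m.k3' hl hi i1 hvi)
  have ha' : g * a * g⁻¹ ∈ Cx v := by
    have := conj_mem_Cx (g := g).2 ha
    rwa [show g * (g⁻¹ * v * g⁻¹⁻¹) * g⁻¹ = v by group] at this
  have haM := m.k3 hl hv v1 ha'
  have hL := m.pc_M hl (cl_self n t)
  have hL' := hL.cj_mem h
  have hne : LL n t ≠ cj i (LL n t) := fun e => m.st1 hl hg hi i1 (mem_normalizer_iff_cj.2 e.symm)
  have hu' : i * u * i⁻¹ ∈ cj i (LL n t) := conj_mem_cj.2 hu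
  have n0 : u ∉ cm (LL n t) := fun e => not_mem_O u1 ((m.ll_pu hl (IsConj.refl t)).2.2.zen ⟨hu, e⟩)
  have key : ∀ X, PC 2 X (N (EE n t)) → v ∉ cm X →
      cj (g * a * g⁻¹) X = LL n t ∨ cj (g * a * g⁻¹) X = cj i (LL n t) := fun X hX hc => by
    by_contra hn
    push Not at hn
    refine hc ((conj_mem_cm (g := g * a * g⁻¹)).1 ?_)
    rw [mem_Cx'.1 ha']
    exact e ▸ mul_mem (PC_ne (hX.cj_mem haM) hL hn.1 hu) (PC_ne (hX.cj_mem haM) hL' hn.2 hu')
  refine m.st1 hl hg (i := g * a * g⁻¹ * (g * a * g⁻¹)) ?_ ?_ (two_set (key _ hL fun e1 => n0 ?_) (key _ hL' fun e1 => n0 ?_))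
  · rw [show g * a * g⁻¹ * (g * a * g⁻¹) = g * (a * a) * g⁻¹ by group]
    exact conj_mem_cj.2 a2
  · rw [show g * a * g⁻¹ * (g * a * g⁻¹) = g * (a * a) * g⁻¹ by group, ord_conj, a1]
  · exact (mul_mem_cancel_right (PC_ne hL hL' hne hu')).1 (e ▸ e1)
  · exact conj_mem_cm.1 ((mul_mem_cancel_left (PC_ne hL' hL hne.symm hu)).1 (e ▸ e1))

end Mid

theorem Mid.ll_top (m : Mid n z) : LL n z = ⊤ := by
  by_contra hl
  haveI := m.ctx.simple
  have hz := IsConj.refl z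
  have hK := m.int z hz
  have hzE := (cl_self n z).le (m.mem_ll hz)
  obtain ⟨r, A⟩ := hK.act
  obtain ⟨T, hT, hzT⟩ := exists_isSylowIn_ge (isPGroup_two_zpowers (sq_of_ord hK.ord))
    (zpowers_le.2 (le_normalizer hzE))
  replace hzT := zpowers_le.1 hzT
  have hS : IsSylowIn 2 T ⊤ := isSylowIn_of_isSylowIn_normalizer le_top (hT.of_le (le_inf le_top le_normalizer)
    fun g hg => m.k2' hl (cl_self n z) (hT.le (conj_mem_of_mem_normalizer hg.2 hzT)))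
  refine m.M_ne hl (no_sc (m.ctx.not_comm hK) hS (A.noncentral hS) (T := T ⊓ EE n z) inf_le_left
    (fun e => ne_one_of_ord hK.ord (e.le ⟨hzT, hzE⟩)) (fun a ha g hg => ⟨hg, ?_⟩) fun v hv => m.k3 hl hv.2)
  by_cases h1 : a = 1
  · simp [h1]
  obtain ⟨j, hj, j1⟩ := exists_involution_of_pgroup (isPGroup_zpowers_of_mem hT.pgroup ha.1) (by simpa using h1)
  refine conj_mem_of_mem_normalizer (m.k4 hl (zpowers_le.2 ha.2 hj) j1 (hT.le (zpowers_le.2 hg ?_))) ha.2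
  rw [← cj_zpowers]
  exact conj_mem_cj.2 hj

end CfsgLib.Sol
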