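import Mathlib
import Cfsg.Agent.Lib.Sol.Act2

/-! Generation by centralisers of involutions in degrees eight and eleven. -/

set_option autoImplicit false
set_option linter.unusedSectionVars false
set_option linter.style.haveILetI false

namespace CfsgLib.Sol

open Cfsg Subgroup CfsgLib.PComp CfsgLib.Tech CfsgLib.W2 Equiv Equiv.Perm
open CfsgLib.LBal hiding cj
open CfsgLib.StdInt (Two)
open CfsgLib.AltAut (tc)
open scoped commutatorElement

universe u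

variable {G : Type u} [Group G] [Finite G] {n : ℕ} {X Y J K L M P Q W : Subgroup G} {a b c t u v w x y z : G}
variable {r : G → Perm (Fin n)}

namespace Gn

open CfsgLib.StdInt.AltS

variable {α : Type*} [Fintype α] [DecidableEq α]

/-- a cycle of three blocks -/
def TT (x : Perm α) (p q s : α) : Perm α := tc p q s * tc (x p) (x q) (x s)

/-- the odd elements of the centralisers of a family of involutions lie in `S` -/
structure Fam (S : Subgroup (Perm α)) (F : Perm α → Prop) : Prop where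
  nb : ∀ x y, F x → Oct y → Oct (x * y) → F y
  tri : ∀ x, F x → ∀ p q s, [p, q, s, x p, x q, x s].Nodup → TT x p q s ∈ S
  fix : ∀ x, F x → ∀ p q s, [p, q, s].Nodup → x p = p → x q = q → x s = s → tc p q s ∈ S

variable {S : Subgroup (Perm α)} {F : Perm α → Prop}

theorem oct_conj {y : Perm α} (h : Oct y) (g : Perm α) : Oct (g * y * g⁻¹) :=
  ⟨by rw [conj_mul, h.1, mul_one, mul_inv_cancel], by rw [card_support_conj, h.2]⟩

theorem Fam.conj (h : Fam S F) (g : Perm α) :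
    Fam (S.comap (MulAut.conj g).toMonoidHom) fun x => F (g * x * g⁻¹) := by
  have e : ∀ (x : Perm α) p, (g * x * g⁻¹) (g p) = g (x p) := fun x p => by simp
  refine ⟨fun x y h1 h2 h3 => h.nb _ _ h1 (oct_conj h2 g) (by rw [conj_mul]; exact oct_conj h3 g),
    fun x h1 p q s hn => ?_, fun x h1 p q s hn e1 e2 e3 => ?_⟩
  · have := h.tri _ h1 (g p) (g q) (g s) (by rw [e, e, e]; exact hn.map g.injective)
    rwa [TT, e, e, e, ← conj_tc, ← conj_tc, conj_mul] at this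
  · have := h.fix _ h1 (g p) (g q) (g s) (hn.map g.injective) (by rw [e, e1]) (by rw [e, e2]) (by rw [e, e3])
    rwa [← conj_tc] at this

variable (n) [NeZero n]

/-- the first involution -/
def aa : Perm (Fin n) := swap 0 1 * swap 2 3 * swap 4 5 * swap 6 7

/-- the second involution -/
def bb : Perm (Fin n) := swap 0 2 * swap 1 3 * swap 4 6 * swap 5 7

/-- the third involution -/
def cc : Perm (Fin n) := swap 0 2 * swap 1 3 * swap 4 7 * swap 5 6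

/-- the words for the generators -/
def Words : Prop := Oct (aa n) ∧ Oct (bb n) ∧ Oct (cc n) ∧ Oct (aa n * bb n) ∧ Oct (aa n * cc n) ∧
  (∀ t ∈ [((0 : Fin n), (2 : Fin n), (4 : Fin n)), (2, 4, 7), (0, 7, 2), (0, 2, 5), (0, 2, 7), (0, 2, 6)],
    [t.1, t.2.1, t.2.2, aa n t.1, aa n t.2.1, aa n t.2.2].Nodup) ∧
  (∀ t ∈ [((0 : Fin n), (1 : Fin n), (5 : Fin n)), (0, 1, 4), (0, 1, 7), (0, 1, 6)],
    [t.1, t.2.1, t.2.2, bb n t.1, bb n t.2.1, bb n t.2.2].Nodup) ∧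
  (∀ t ∈ [((0 : Fin n), (1 : Fin n), (5 : Fin n)), (0, 4, 6), (0, 4, 3), (0, 5, 3), (0, 6, 3), (0, 7, 3)],
    [t.1, t.2.1, t.2.2, cc n t.1, cc n t.2.1, cc n t.2.2].Nodup) ∧
  TT (aa n) 0 2 4 * TT (bb n) 0 1 5 * TT (cc n) 0 1 5 * TT (aa n) 2 4 7 = tc 0 1 2 ∧
  TT (aa n) 0 2 4 * TT (bb n) 0 1 4 * TT (cc n) 0 4 6 * TT (aa n) 0 7 2 = tc 0 1 3 ∧
  TT (aa n) 0 2 5 * TT (bb n) 0 1 7 * TT (cc n) 0 4 3 = tc 0 1 4 ∧
  TT (aa n) 0 2 4 * TT (bb n) 0 1 6 * TT (cc n) 0 5 3 = tc 0 1 5 ∧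
  TT (aa n) 0 2 7 * TT (bb n) 0 1 5 * TT (cc n) 0 6 3 = tc 0 1 6 ∧
  TT (aa n) 0 2 6 * TT (bb n) 0 1 4 * TT (cc n) 0 7 3 = tc 0 1 7

theorem words8 : Words 8 := by unfold Words Oct; and_intros <;> decide +kernel

theorem words11 : Words 11 := by unfold Words Oct; and_intros <;> decide +kernel

variable {n} {S : Subgroup (Perm (Fin n))} {F : Perm (Fin n) → Prop}

theorem Fam.six (h : Fam S F) (w : Words n) (h0 : F (aa n)) :
    ∀ k ∈ [(2 : Fin n), 3, 4, 5, 6, 7], tc 0 1 k ∈ S := by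
  obtain ⟨-, w1, w2, w3, w4, wa, wb, wc, e2, e3, e4, e5, e6, e7⟩ := w
  have ha := fun t e => h.tri _ h0 _ _ _ (wa t e)
  have hb := fun t e => h.tri _ (h.nb _ _ h0 w1 w3) _ _ _ (wb t e)
  have hc := fun t e => h.tri _ (h.nb _ _ h0 w2 w4) _ _ _ (wc t e)
  simp only [List.mem_cons, List.not_mem_nil, or_false, forall_eq_or_imp, forall_eq] at ha hb hc ⊢
  obtain ⟨a1, a2, a3, a4, a5, a6⟩ := ha
  obtain ⟨b1, b2, b3, b4⟩ := hb
  obtain ⟨c1, c2, c3, c4, c5, c6⟩ := hc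
  exact ⟨e2 ▸ mul_mem (mul_mem (mul_mem a1 b1) c1) a2, e3 ▸ mul_mem (mul_mem (mul_mem a1 b2) c2) a3,
    e4 ▸ mul_mem (mul_mem a4 b3) c3, e5 ▸ mul_mem (mul_mem a1 b4) c4, e6 ▸ mul_mem (mul_mem a5 b1) c5,
    e7 ▸ mul_mem (mul_mem a6 b2) c6⟩

theorem Fam.alt {n : ℕ} {S : Subgroup (Perm (Fin n))} {F : Perm (Fin n) → Prop} (h : Fam S F) (hn : n = 8 ∨ n = 11)
    {x : Perm (Fin n)} (h0 : F x) (ho : Oct x) : alternatingGroup (Fin n) ≤ S := by
  have key : ∀ [NeZero n], Words n → (∀ {S F}, Fam S F → F (aa n) → (∀ k ∈ [(2 : Fin n), 3, 4, 5, 6, 7], tc 0 1 k ∈ S) →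
      alternatingGroup (Fin n) ≤ S) → alternatingGroup (Fin n) ≤ S := fun w k π hπ => by
    obtain ⟨g, -, rfl⟩ := McLRec.exists_conj w.1.1 ho.1 (w.1.2.trans ho.2.symm)
    have := k (h.conj g) h0 ((h.conj g).six w h0) ((inferInstance : (alternatingGroup _).Normal).conj_mem' π hπ g)
    simpa [mul_assoc] using this
  rcases hn with rfl | rfl
  · refine key words8 fun _ _ k => AltAut.alternatingGroup_le_of_tc (p := 0) (q := 1) (by decide) fun i h1 h2 =>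
      k i ?_
    revert i; decide
  · refine key words11 fun {S F} h h0 k => AltAut.alternatingGroup_le_of_tc (p := 0) (q := 1) (by decide)
      fun i h1 h2 => ?_
    have a1 := h.fix _ h0 8 9 10 (by decide) (by decide) (by decide) (by decide)
    have a2 := h.fix _ (h.nb _ _ h0 LyS.ρ_facts.2.1 LyS.ρ_facts.2.2.1) 6 7 10 (by decide) (by decide) (by decide)
      (by decide)
    have a3 := S.mul_mem (k 6 (by simp)) (k 7 (by simp))
    have b10 := S.mul_mem (S.mul_mem a3 a2) (S.inv_mem a3)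
    have b8 := S.mul_mem (S.mul_mem a1 b10) (S.inv_mem a1)
    have b9 := S.mul_mem (S.mul_mem a1 b8) (S.inv_mem a1)
    simp only [conj_tc] at b10 b8 b9
    by_cases e : i ∈ [(2 : Fin 11), 3, 4, 5, 6, 7]
    · exact k i e
    obtain rfl | rfl | rfl : i = 8 ∨ i = 9 ∨ i = 10 := by revert i; decide
    · convert b8 <;> decide
    · convert b9 <;> decide
    · convert b10 <;> decide

end Gn

theorem Act.gen (A : Act n J z r) (hn : n = 8 ∨ n = 11) {p : G → Prop}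
    (h0 : ∃ u ∈ J, orderOf u = 2 ∧ u ≠ z ∧ p u)
    (h1 : ∀ u ∈ J, orderOf u = 2 → u ≠ z → p u → ∀ v ∈ J, orderOf v = 2 → v ≠ z → Commute u v → p v)
    (h2 : ∀ u ∈ J, p u → J ⊓ Cx u ≤ M) (h3 : O J ≤ M) : J ≤ M := by
  obtain ⟨u, hu, u1, u2, u3⟩ := h0
  have hle : M ⊓ J ≤ N J := inf_le_right.trans le_normalizer
  have hF : Gn.Fam (A.img (M ⊓ J)) fun π => ∃ u ∈ J, orderOf u = 2 ∧ u ≠ z ∧ p u ∧ r u = π := by
    refine ⟨?_, ?_, ?_⟩
    · rintro _ π ⟨u, hu, u1, u2, u3, rfl⟩ o1 o2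
      obtain ⟨v, hv, v1, v2, v3, v4⟩ := A.lift_oct1 hu (sq_of_ord u1) o1 o2
      exact ⟨v, hv, v1, v2, h1 u hu u1 u2 u3 v hv v1 v2 v3, v4⟩
    · rintro _ ⟨u, hu, u1, u2, u3, rfl⟩ a b c hd
      obtain ⟨y, hy, y1, -, y2⟩ := A.lift_tri (le_normalizer hu) (sq_of_ord u1) hd
      exact (A.mem_img hle).2 ⟨y, ⟨h2 u hu u3 ⟨hy, mem_Cx.2 y1.symm⟩, hy⟩, y2⟩
    · rintro _ ⟨u, hu, u1, u2, u3, rfl⟩ a b c hd e1 e2 e3
      obtain ⟨y, hy, y1, -, y2⟩ := A.lift_tc (le_normalizer hu) (two_of_ord u1) hd e1 e2 e3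
      exact (A.mem_img hle).2 ⟨y, ⟨h2 u hu u3 ⟨hy, mem_Cx.2 y1.symm⟩, hy⟩, y2⟩
  have hz : z ∈ M := h2 u hu u3 ⟨A.mem, Cx_comm.1 (A.cen hu)⟩
  intro g hg
  obtain ⟨m, hm, e⟩ := (A.mem_img hle).1
    (hF.alt hn ⟨u, hu, u1, u2, u3, rfl⟩ (A.oct (by omega) hu u1 u2) (mem_alternatingGroup.2 (A.ev hg)))
  rw [← M.mul_mem_cancel_left (inv_mem hm.1)]
  rcases A.zen (mul_mem (inv_mem hm.2) hg) (by
    rw [A.mul (inv_mem (hle hm)) (le_normalizer hg), A.inv (hle hm), e, inv_mul_cancel]) with f | f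
  exacts [h3 f, (M.mul_mem_cancel_right hz).1 (h3 f)]

end CfsgLib.Sol
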