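import Mathlib
import Cfsg.Agent.Lib.Sol.MidA
import Cfsg.Agent.Lib.Sol.Gen

/-! A proper pump-up yields a proper subgroup `LL n z`. -/

set_option autoImplicit false
set_option linter.unusedSectionVars false
set_option linter.style.haveILetI false

namespace CfsgLib.Sol

open Cfsg Subgroup CfsgLib.PComp CfsgLib.Tech CfsgLib.W2 Equiv Equiv.Perm
open CfsgLib.LBal hiding cj
open CfsgLib.StdInt (Two)
open CfsgLib.AltAut (tc)
open scoped commutatorElement

universe u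

variable {G : Type u} [Group G] [Finite G] {n : ℕ} {X Y J K L M P Q W : Subgroup G} {a b c t u v w x y z : G}


/-- the subgroup generated by the cores of the centralisers in a four-group -/
def Wd (z a : G) : Subgroup G := O (Cx z) ⊔ O (Cx a) ⊔ O (Cx (z * a))

theorem cj_Wd (g z a : G) : cj g (Wd z a) = Wd (g * z * g⁻¹) (g * a * g⁻¹) := by
  simp only [Wd, cj_sup, cj_O, cj_Cx, conj_mul]

theorem Wd_comm (h : Commute z a) : Wd z a = Wd a z := by rw [Wd, Wd, h.eq, sup_comm (O (Cx z))]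

theorem Wd_mul (h : z * z = 1) : Wd z (z * a) = Wd z a := by
  rw [Wd, Wd, ← mul_assoc, h, one_mul, sup_right_comm]

namespace Mid

variable (m : Mid n t)
include m

theorem w8 (hz : IsConj t z) {E : Subgroup G} (hE : E ≤ kap n z) (h2 : ∀ e ∈ E, e * e = 1)
    (h8 : 8 ≤ Nat.card E) : ∃ U : Subgroup G, Odd (Nat.card U) ∧
      ∀ a ∈ E, ∀ b ∈ E, a ≠ 1 → b ≠ 1 → a ≠ b → Wd a b = U := by
  have hc : ∀ a ∈ E, E ≤ Cx a := fun a ha b hb => mem_Cx.2 (Gold.mul_comm_of_elem h2 hb ha)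
  have n0 : ∀ a ∈ E, ∀ b ∈ E, ∀ x ∈ O (Cx a), b * x * b⁻¹ ∈ O (Cx a) := fun a ha b hb x hx =>
    Tech.conj_mem_of_mem_normalizer (le_normalizer_opOf _ (hc a ha hb)) hx
  obtain ⟨h1, h3⟩ := Agent.S0217.result (p := 2) E (fun a ha b hb => mem_Cx.1 (hc b hb ha))
    (fun a ha => by rw [pow_two, h2 a ha]) (by omega) (fun a => O (Cx a)) (fun a _ _ => opOf_le _)
    (fun a _ _ => (odd_card_opOf _).not_two_dvd_nat) (fun a ha _ => n0 a ha)
    (fun a _ _ => FT.odd_subgroup_solvable (odd_card_opOf _)) fun a ha a1 b hb b1 =>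
      m.bal (m.inv z b hz (hE hb) (ord_two (h2 b hb) b1)) (m.tri hz (hE hb) (ord_two (h2 b hb) b1)
        (hE ha) (ord_two (h2 a ha) a1) (mem_Cx.1 (hc a ha hb))) (ord_two (h2 a ha) a1)
  have k : ∀ a (ha : a ∈ E ∧ a ≠ 1), O (Cx a) ≤ ⨆ a : {a : G // a ∈ E ∧ a ≠ 1}, O (Cx (a : G)) :=
    fun a ha => le_iSup_of_le ⟨a, ha⟩ le_rfl
  have hn : E ≤ N (⨆ a : {a : G // a ∈ E ∧ a ≠ 1}, O (Cx (a : G))) := fun b hb =>
    mem_normalizer_of_cj_le (map_le_iff_le_comap.2 (iSup_le fun a x hx => k a a.2 (n0 a a.2.1 b hb x hx)))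
  have ho := Nat.odd_iff.2 (Nat.two_dvd_ne_zero.1 h1)
  refine ⟨_, ho, fun a ha b hb a1 b1 ne => ?_⟩
  have ab : a * b ≠ 1 := fun e => ne (by rw [eq_inv_of_mul_eq_one_left e, inv_eq_of_mul_eq_one_left (h2 b hb)])
  exact le_antisymm (sup_le (sup_le (k a ⟨ha, a1⟩) (k b ⟨hb, b1⟩)) (k _ ⟨mul_mem ha hb, ab⟩))
    (le_of_four ho (ord_two (h2 a ha) a1) (ord_two (h2 b hb) b1) ne (mem_Cx.1 (hc b hb ha)) (hn ha) (hn hb)
      ((h3 a ha a1).le.trans (le_sup_left.trans le_sup_left))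
      ((h3 b hb b1).le.trans (le_sup_right.trans le_sup_left))
      ((h3 _ (mul_mem ha hb) ab).le.trans le_sup_right))

theorem Wd_odd (hz : IsConj t z) (ha : a ∈ kap n z) (h1 : orderOf a = 2) (h2 : a ≠ z) :
    Odd (Nat.card (Wd z a)) := by
  obtain ⟨_, A⟩ := (m.int z hz).act
  obtain ⟨E, e1, e2, e3, e4, e5⟩ := A.e16 (m.le.trans (by norm_num)) ha h1
  obtain ⟨U, ho, h⟩ := m.w8 hz e1 e2 (by omega)
  rwa [h z e4 a e5 (ne_one_of_ord A.ord) (ne_one_of_ord h1) h2.symm]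

theorem Wd_eq (hz : IsConj t z) (ha : a ∈ kap n z) (h1 : orderOf a = 2) (h2 : a ≠ z)
    (hb : b ∈ kap n z) (h3 : orderOf b = 2) (h4 : b ≠ z) (hc : Commute a b) : Wd z b = Wd z a := by
  have I := m.int z hz
  have c : Commute z a := (mem_Cx.1 (I.pc.le ha)).symm
  have c' : Commute z b := (mem_Cx.1 (I.pc.le hb)).symm
  have z2 := sq_of_ord I.ord
  have mem := Invol.mem_closure_pair_of_commute z2 (sq_of_ord h1) c
  by_cases e : b ∈ closure ({z, a} : Set G)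
  · rcases (mem b).1 e with rfl | rfl | rfl | rfl
    · exact absurd rfl (ne_one_of_ord h3)
    · exact absurd rfl h4
    · rfl
    · exact Wd_mul z2
  have el := (GHM.El.of_card (K := ⊥) (A := closure ({z, a} : Set G)) (n := 4) bot_le (fun x hx => by
      rcases (mem x).1 hx with rfl | rfl | rfl | rfl
      · exact mul_one 1
      · exact z2
      · exact sq_of_ord h1
      · exact Invol.mul_mul_self_of_commute z2 (sq_of_ord h1) c)
    (by rw [Invol.card_closure_pair_of_commute I.ord h1 h2.symm c, card_bot])).step e (sq_of_ord h3)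
    fun x hx => commutatorElement_eq_one_iff_commute.2 (by
      rcases (mem x).1 hx with rfl | rfl | rfl | rfl
      · exact Commute.one_right b
      · exact c'.symm
      · exact hc.symm
      · exact c'.symm.mul_right hc.symm)
  obtain ⟨U, -, h⟩ := m.w8 hz (sup_le ((closure_le _).2 (Set.pair_subset I.mem ha)) (zpowers_le.2 hb))
    el.sq (by simpa using el.idx)
  have mz := (mem_sup_left ((mem z).2 (by simp)) : z ∈ closure ({z, a} : Set G) ⊔ zpowers b)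
  rw [h z mz b (mem_sup_right (mem_zpowers b)) (ne_one_of_ord I.ord) (ne_one_of_ord h3) h4.symm,
    h z mz a (mem_sup_left ((mem a).2 (by simp))) (ne_one_of_ord I.ord) (ne_one_of_ord h1) h2.symm]

theorem kap_le_N_Wd (hn : n = 8 ∨ n = 11) (hz : IsConj t z) (ha : a ∈ kap n z) (h1 : orderOf a = 2)
    (h2 : a ≠ z) : kap n z ≤ N (Wd z a) := by
  have I := m.int z hz
  obtain ⟨_, A⟩ := I.act
  exact A.gen hn (p := fun u => Wd z u = Wd z a) ⟨a, ha, h1, h2, rfl⟩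
    (fun u hu u2 ne e v hv v2 ne' hc => (m.Wd_eq hz hu u2 ne hv v2 ne' hc).trans e)
    (fun u _ e g hg => mem_normalizer_iff_cj.2 (by
      rw [← e, cj_Wd, mem_Cx'.1 (I.pc.le hg.1), mem_Cx'.1 hg.2]))
    (I.pc.opOf_le.trans ((le_sup_left.trans le_sup_left).trans le_normalizer))

theorem LL_le_N_Wd (hn : n = 8 ∨ n = 11) (hz : IsConj t z) (ha : a ∈ kap n z) (h1 : orderOf a = 2)
    (h2 : a ≠ z) : LL n z ≤ N (Wd z a) := LL_le fun u hu u2 => by
  have I := m.int z hz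
  by_cases e : u = z
  · rw [e]; exact m.kap_le_N_Wd hn hz ha h1 h2
  obtain ⟨_, A⟩ := I.act
  obtain ⟨l, hl, rfl⟩ := A.isConj (m.le.trans (by norm_num)) ha h1 h2 hu u2 e
  have := m.kap_le_N_Wd hn (m.inv z _ hz hu u2) (m.symm hz hu u2) I.ord (Ne.symm e)
  rwa [Wd_comm (mem_Cx.1 (I.pc.le hu)), show Wd z (l * a * l⁻¹) = Wd z a by
    conv_rhs => rw [← mem_normalizer_iff_cj.1 (m.kap_le_N_Wd hn hz ha h1 h2 hl), cj_Wd,
      mem_Cx'.1 (I.pc.le hl)]] at this

end Mid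

theorem Mid.ll_ne (m : Mid n z) (hY : ¬ NoY n z) : LL n z ≠ ⊤ := by
  simp only [NoY, not_forall] at hY
  obtain ⟨w, x, K, L, hw, I, x2, hc, hx, hL, hK, hn⟩ := hY
  obtain rfl := m.uq w K hw I
  have hX := m.ctx.Cx_ne I (ne_one_of_ord x2)
  have y := (m.ctx.pu' hX (I.ky x2 hc hx) hL hK).alt.resolve_left hn
  suffices LL n w ≠ ⊤ by
    obtain ⟨g, rfl⟩ := isConj_iff.1 hw
    exact fun e => this (by rw [← cj_LL, e, cj_top])
  obtain ⟨_, A⟩ := I.act
  obtain ⟨a, ha, h1, h2⟩ := A.exists_inv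
  by_cases e : Wd w a = ⊥
  · have hO : O (kap n w) ≤ ⊥ := e ▸ I.pc.opOf_le.trans (le_sup_left.trans le_sup_left)
    have k : kap n w ≤ Cx x := fun k hk =>
      mem_Cx.2 (commutatorElement_eq_one_iff_mul_comm.1 (hO (mem_cmod.1 hx k hk))).symm
    refine ne_top_of_le_ne_top hX (LL_le fun u hu u2 => ?_)
    obtain ⟨l, hl, rfl⟩ := y.one u (hK (mem_ky hu (k hu) (two_of_ord u2))) u2
    rw [← cj_kap]
    exact (cj_mono l k).trans (cj_eq_of_mem (hL.le hl)).le
  · refine ne_top_of_le_ne_top (m.ctx.N_ne e fun e' => ?_) (m.LL_le_N_Wd y.deg hw ha h1 h2)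
    have := StdInt.odd_of_mem (m.Wd_odd hw ha h1 h2) (e' ▸ mem_top a)
    rw [h1] at this
    exact absurd this (by decide)

end CfsgLib.Sol
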